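import Cfsg.Agent.H7.Ico.L

/-! The 315 reflections. -/

set_option autoImplicit false
set_option maxRecDepth 100000

namespace CfsgH7.Ico

open Cfsg.Spor Quaternion Q

def P : List (Int × Int) := [(-3, 1), (-2, -1), (-2, 0), (-2, 1), (-2, 2), (-1, -1), (-1, 0), (-1, 1), (-1, 2), (0, -2), (0, -1), (0, 0), (0, 1), (0, 2), (1, -2), (1, -1), (1, 0), (1, 1), (2, -2), (2, -1), (2, 0), (2, 1), (3, -1)]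
def t (a : Int × Int) : Int := 2 * a.1 * a.1 + 2 * a.1 * a.2 + 3 * a.2 * a.2
theorem t_nn (a : Int × Int) : 0 ≤ t a := by unfold t; nlinarith [sq_nonneg (a.1 + a.2), sq_nonneg a.1, sq_nonneg a.2]
theorem mem_P {a : Int × Int} (h : t a ≤ 16) : a ∈ P := by
  obtain ⟨a, b⟩ := a
  simp only [t] at h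
  have h1 : -3 < b := by nlinarith [sq_nonneg (2 * a + b)]
  have h2 : b < 3 := by nlinarith [sq_nonneg (2 * a + b)]
  have h3 : -4 < a := by nlinarith [sq_nonneg (a + 3 * b)]
  have h4 : a < 4 := by nlinarith [sq_nonneg (a + 3 * b)]
  interval_cases a <;> interval_cases b <;> first | decide | omega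
def T (x : Q) : Int := 2 * x.nA + x.nB
theorem T_eq (x : Q) : T x = t (x.a0, x.b0) + t (x.a1, x.b1) + t (x.a2, x.b2) + t (x.a3, x.b3) := by
  simp only [T, t, nA, nB, p, q]; ring
theorem T_nn (x : Q) : 0 ≤ T x := by
  rw [T_eq]; linarith [t_nn (x.a0, x.b0), t_nn (x.a1, x.b1), t_nn (x.a2, x.b2), t_nn (x.a3, x.b3)]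
def en (f : Q → Bool) : Bool := P.all fun a => P.all fun b => decide (16 < t a + t b) || P.all fun c =>
  decide (16 < t a + t b + t c) || P.all fun d => decide (16 < t a + t b + t c + t d) || f ⟨a.1, a.2, b.1, b.2, c.1, c.2, d.1, d.2⟩
theorem en_spec {f : Q → Bool} (h : en f = true) {x : Q} (hx : T x ≤ 16) : f x = true := by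
  rw [T_eq] at hx
  have h0 := t_nn (x.a0, x.b0); have h1 := t_nn (x.a1, x.b1); have h2 := t_nn (x.a2, x.b2); have h3 := t_nn (x.a3, x.b3)
  simp only [en, List.all_eq_true, Bool.or_eq_true, decide_eq_true_eq] at h
  exact ((((h _ (mem_P (a := (x.a0, x.b0)) (by omega)) _ (mem_P (a := (x.a1, x.b1)) (by omega))).resolve_left (by omega) _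
    (mem_P (a := (x.a2, x.b2)) (by omega))).resolve_left (by omega) _ (mem_P (a := (x.a3, x.b3)) (by omega))).resolve_left (by omega))

def UL : List Q := [⟨-2,0,0,0,0,0,0,0⟩,
  ⟨-1,0,-1,0,-1,0,-1,0⟩,
  ⟨-1,0,-1,0,-1,0,1,0⟩,
  ⟨-1,0,-1,0,1,0,-1,0⟩,
  ⟨-1,0,-1,0,1,0,1,0⟩,
  ⟨-1,0,-1,1,0,0,0,-1⟩,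
  ⟨-1,0,-1,1,0,0,0,1⟩,
  ⟨-1,0,0,-1,-1,1,0,0⟩,
  ⟨-1,0,0,-1,1,-1,0,0⟩,
  ⟨-1,0,0,0,0,-1,-1,1⟩,
  ⟨-1,0,0,0,0,-1,1,-1⟩,
  ⟨-1,0,0,0,0,1,-1,1⟩,
  ⟨-1,0,0,0,0,1,1,-1⟩,
  ⟨-1,0,0,1,-1,1,0,0⟩,
  ⟨-1,0,0,1,1,-1,0,0⟩,
  ⟨-1,0,1,-1,0,0,0,-1⟩,
  ⟨-1,0,1,-1,0,0,0,1⟩,
  ⟨-1,0,1,0,-1,0,-1,0⟩,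
  ⟨-1,0,1,0,-1,0,1,0⟩,
  ⟨-1,0,1,0,1,0,-1,0⟩,
  ⟨-1,0,1,0,1,0,1,0⟩,
  ⟨-1,1,-1,0,0,-1,0,0⟩,
  ⟨-1,1,-1,0,0,1,0,0⟩,
  ⟨-1,1,0,-1,0,0,-1,0⟩,
  ⟨-1,1,0,-1,0,0,1,0⟩,
  ⟨-1,1,0,0,-1,0,0,-1⟩,
  ⟨-1,1,0,0,-1,0,0,1⟩,
  ⟨-1,1,0,0,1,0,0,-1⟩,
  ⟨-1,1,0,0,1,0,0,1⟩,
  ⟨-1,1,0,1,0,0,-1,0⟩,
  ⟨-1,1,0,1,0,0,1,0⟩,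
  ⟨-1,1,1,0,0,-1,0,0⟩,
  ⟨-1,1,1,0,0,1,0,0⟩,
  ⟨0,-1,-1,0,0,0,-1,1⟩,
  ⟨0,-1,-1,0,0,0,1,-1⟩,
  ⟨0,-1,-1,1,-1,0,0,0⟩,
  ⟨0,-1,-1,1,1,0,0,0⟩,
  ⟨0,-1,0,0,-1,1,-1,0⟩,
  ⟨0,-1,0,0,-1,1,1,0⟩,
  ⟨0,-1,0,0,1,-1,-1,0⟩,
  ⟨0,-1,0,0,1,-1,1,0⟩,
  ⟨0,-1,1,-1,-1,0,0,0⟩,
  ⟨0,-1,1,-1,1,0,0,0⟩,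
  ⟨0,-1,1,0,0,0,-1,1⟩,
  ⟨0,-1,1,0,0,0,1,-1⟩,
  ⟨0,0,-2,0,0,0,0,0⟩,
  ⟨0,0,-1,0,-1,1,0,-1⟩,
  ⟨0,0,-1,0,-1,1,0,1⟩,
  ⟨0,0,-1,0,1,-1,0,-1⟩,
  ⟨0,0,-1,0,1,-1,0,1⟩,
  ⟨0,0,-1,1,0,-1,-1,0⟩,
  ⟨0,0,-1,1,0,-1,1,0⟩,
  ⟨0,0,-1,1,0,1,-1,0⟩,
  ⟨0,0,-1,1,0,1,1,0⟩,
  ⟨0,0,0,-1,-1,0,-1,1⟩,
  ⟨0,0,0,-1,-1,0,1,-1⟩,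
  ⟨0,0,0,-1,1,0,-1,1⟩,
  ⟨0,0,0,-1,1,0,1,-1⟩,
  ⟨0,0,0,0,-2,0,0,0⟩,
  ⟨0,0,0,0,0,0,-2,0⟩,
  ⟨0,0,0,0,0,0,2,0⟩,
  ⟨0,0,0,0,2,0,0,0⟩,
  ⟨0,0,0,1,-1,0,-1,1⟩,
  ⟨0,0,0,1,-1,0,1,-1⟩,
  ⟨0,0,0,1,1,0,-1,1⟩,
  ⟨0,0,0,1,1,0,1,-1⟩,
  ⟨0,0,1,-1,0,-1,-1,0⟩,
  ⟨0,0,1,-1,0,-1,1,0⟩,
  ⟨0,0,1,-1,0,1,-1,0⟩,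
  ⟨0,0,1,-1,0,1,1,0⟩,
  ⟨0,0,1,0,-1,1,0,-1⟩,
  ⟨0,0,1,0,-1,1,0,1⟩,
  ⟨0,0,1,0,1,-1,0,-1⟩,
  ⟨0,0,1,0,1,-1,0,1⟩,
  ⟨0,0,2,0,0,0,0,0⟩,
  ⟨0,1,-1,0,0,0,-1,1⟩,
  ⟨0,1,-1,0,0,0,1,-1⟩,
  ⟨0,1,-1,1,-1,0,0,0⟩,
  ⟨0,1,-1,1,1,0,0,0⟩,
  ⟨0,1,0,0,-1,1,-1,0⟩,
  ⟨0,1,0,0,-1,1,1,0⟩,
  ⟨0,1,0,0,1,-1,-1,0⟩,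
  ⟨0,1,0,0,1,-1,1,0⟩,
  ⟨0,1,1,-1,-1,0,0,0⟩,
  ⟨0,1,1,-1,1,0,0,0⟩,
  ⟨0,1,1,0,0,0,-1,1⟩,
  ⟨0,1,1,0,0,0,1,-1⟩,
  ⟨1,-1,-1,0,0,-1,0,0⟩,
  ⟨1,-1,-1,0,0,1,0,0⟩,
  ⟨1,-1,0,-1,0,0,-1,0⟩,
  ⟨1,-1,0,-1,0,0,1,0⟩,
  ⟨1,-1,0,0,-1,0,0,-1⟩,
  ⟨1,-1,0,0,-1,0,0,1⟩,
  ⟨1,-1,0,0,1,0,0,-1⟩,
  ⟨1,-1,0,0,1,0,0,1⟩,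
  ⟨1,-1,0,1,0,0,-1,0⟩,
  ⟨1,-1,0,1,0,0,1,0⟩,
  ⟨1,-1,1,0,0,-1,0,0⟩,
  ⟨1,-1,1,0,0,1,0,0⟩,
  ⟨1,0,-1,0,-1,0,-1,0⟩,
  ⟨1,0,-1,0,-1,0,1,0⟩,
  ⟨1,0,-1,0,1,0,-1,0⟩,
  ⟨1,0,-1,0,1,0,1,0⟩,
  ⟨1,0,-1,1,0,0,0,-1⟩,
  ⟨1,0,-1,1,0,0,0,1⟩,
  ⟨1,0,0,-1,-1,1,0,0⟩,
  ⟨1,0,0,-1,1,-1,0,0⟩,
  ⟨1,0,0,0,0,-1,-1,1⟩,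
  ⟨1,0,0,0,0,-1,1,-1⟩,
  ⟨1,0,0,0,0,1,-1,1⟩,
  ⟨1,0,0,0,0,1,1,-1⟩,
  ⟨1,0,0,1,-1,1,0,0⟩,
  ⟨1,0,0,1,1,-1,0,0⟩,
  ⟨1,0,1,-1,0,0,0,-1⟩,
  ⟨1,0,1,-1,0,0,0,1⟩,
  ⟨1,0,1,0,-1,0,-1,0⟩,
  ⟨1,0,1,0,-1,0,1,0⟩,
  ⟨1,0,1,0,1,0,-1,0⟩,
  ⟨1,0,1,0,1,0,1,0⟩,
  ⟨2,0,0,0,0,0,0,0⟩]
def C1 : List Q := [⟨-2,0,0,0,0,0,0,0⟩,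
  ⟨-1,0,-1,0,-1,0,1,-2⟩,
  ⟨-1,0,-1,0,-1,2,1,0⟩,
  ⟨-1,0,-1,0,1,-2,-1,0⟩,
  ⟨-1,0,-1,0,1,0,-1,2⟩,
  ⟨-1,0,-1,2,-1,0,1,0⟩,
  ⟨-1,0,-1,2,1,0,-1,0⟩,
  ⟨-1,0,1,-2,-1,0,-1,0⟩,
  ⟨-1,0,1,-2,1,0,1,0⟩,
  ⟨-1,0,1,0,-1,0,-1,2⟩,
  ⟨-1,0,1,0,-1,2,-1,0⟩,
  ⟨-1,0,1,0,1,-2,1,0⟩,
  ⟨-1,0,1,0,1,0,1,-2⟩,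
  ⟨-1,1,-1,1,-1,1,-1,1⟩,
  ⟨-1,1,-1,1,1,-1,1,-1⟩,
  ⟨-1,1,1,-1,-1,1,1,-1⟩,
  ⟨-1,1,1,-1,1,-1,-1,1⟩,
  ⟨-1,2,-1,0,-1,0,1,0⟩,
  ⟨-1,2,-1,0,1,0,-1,0⟩,
  ⟨-1,2,1,0,-1,0,-1,0⟩,
  ⟨-1,2,1,0,1,0,1,0⟩,
  ⟨0,-1,0,-1,0,-1,0,1⟩,
  ⟨0,-1,0,-1,0,1,0,-1⟩,
  ⟨0,-1,0,1,0,-1,0,-1⟩,
  ⟨0,-1,0,1,0,1,0,1⟩,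
  ⟨0,0,-2,0,0,0,0,0⟩,
  ⟨0,0,0,0,-2,0,0,0⟩,
  ⟨0,0,0,0,0,0,-2,0⟩,
  ⟨0,0,0,0,0,0,2,0⟩,
  ⟨0,0,0,0,2,0,0,0⟩,
  ⟨0,0,2,0,0,0,0,0⟩,
  ⟨0,1,0,-1,0,-1,0,-1⟩,
  ⟨0,1,0,-1,0,1,0,1⟩,
  ⟨0,1,0,1,0,-1,0,1⟩,
  ⟨0,1,0,1,0,1,0,-1⟩,
  ⟨1,-2,-1,0,-1,0,-1,0⟩,
  ⟨1,-2,-1,0,1,0,1,0⟩,
  ⟨1,-2,1,0,-1,0,1,0⟩,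
  ⟨1,-2,1,0,1,0,-1,0⟩,
  ⟨1,-1,-1,1,-1,1,1,-1⟩,
  ⟨1,-1,-1,1,1,-1,-1,1⟩,
  ⟨1,-1,1,-1,-1,1,-1,1⟩,
  ⟨1,-1,1,-1,1,-1,1,-1⟩,
  ⟨1,0,-1,0,-1,0,-1,2⟩,
  ⟨1,0,-1,0,-1,2,-1,0⟩,
  ⟨1,0,-1,0,1,-2,1,0⟩,
  ⟨1,0,-1,0,1,0,1,-2⟩,
  ⟨1,0,-1,2,-1,0,-1,0⟩,
  ⟨1,0,-1,2,1,0,1,0⟩,
  ⟨1,0,1,-2,-1,0,1,0⟩,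
  ⟨1,0,1,-2,1,0,-1,0⟩,
  ⟨1,0,1,0,-1,0,1,-2⟩,
  ⟨1,0,1,0,-1,2,1,0⟩,
  ⟨1,0,1,0,1,-2,-1,0⟩,
  ⟨1,0,1,0,1,0,-1,2⟩,
  ⟨2,0,0,0,0,0,0,0⟩]
def TL : List V := [(⟨4,0,0,0,0,0,0,0⟩, ⟨0,0,0,0,0,0,0,0⟩, ⟨0,0,0,0,0,0,0,0⟩),
  (⟨0,0,0,0,0,0,0,0⟩, ⟨4,0,0,0,0,0,0,0⟩, ⟨0,0,0,0,0,0,0,0⟩),
  (⟨2,0,0,0,0,0,0,0⟩, ⟨1,0,1,0,1,-2,-1,0⟩, ⟨0,0,0,0,2,0,0,0⟩),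
  (⟨0,0,0,0,0,0,0,0⟩, ⟨0,0,0,0,0,0,0,0⟩, ⟨4,0,0,0,0,0,0,0⟩),
  (⟨1,-2,1,0,1,0,1,0⟩, ⟨0,0,0,0,0,0,0,0⟩, ⟨1,0,1,0,-1,2,-1,0⟩),
  (⟨2,0,0,0,0,0,0,0⟩, ⟨-1,0,-1,0,-1,2,1,0⟩, ⟨0,0,0,0,-2,0,0,0⟩),
  (⟨1,0,1,0,1,-2,-1,0⟩, ⟨2,0,0,0,0,0,0,0⟩, ⟨0,0,0,0,2,0,0,0⟩),
  (⟨2,0,0,0,0,0,0,0⟩, ⟨0,0,0,0,2,0,0,0⟩, ⟨1,0,1,0,1,-2,-1,0⟩),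
  (⟨2,0,0,0,0,0,0,0⟩, ⟨-1,0,-1,0,-1,2,1,0⟩, ⟨0,0,0,0,2,0,0,0⟩),
  (⟨1,-2,1,0,1,0,1,0⟩, ⟨0,0,0,0,0,0,0,0⟩, ⟨-1,0,-1,0,1,-2,1,0⟩),
  (⟨0,0,0,0,0,0,0,0⟩, ⟨1,-2,1,0,1,0,1,0⟩, ⟨1,0,1,0,-1,2,-1,0⟩),
  (⟨1,-2,1,0,1,0,1,0⟩, ⟨1,0,1,0,-1,2,-1,0⟩, ⟨0,0,0,0,0,0,0,0⟩),
  (⟨-1,0,-1,0,-1,2,1,0⟩, ⟨2,0,0,0,0,0,0,0⟩, ⟨0,0,0,0,-2,0,0,0⟩),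
  (⟨2,0,0,0,0,0,0,0⟩, ⟨0,0,0,0,-2,0,0,0⟩, ⟨-1,0,-1,0,-1,2,1,0⟩),
  (⟨-1,0,-1,0,-1,2,1,0⟩, ⟨2,0,0,0,0,0,0,0⟩, ⟨0,0,0,0,2,0,0,0⟩),
  (⟨1,-2,1,0,-1,0,1,0⟩, ⟨2,0,0,0,0,0,0,0⟩, ⟨0,0,0,0,-2,0,0,0⟩),
  (⟨2,0,0,0,0,0,0,0⟩, ⟨-2,0,0,0,0,0,0,0⟩, ⟨-1,2,1,0,1,0,1,0⟩),
  (⟨2,0,0,0,0,0,0,0⟩, ⟨0,0,0,0,-2,0,0,0⟩, ⟨1,-2,1,0,-1,0,1,0⟩),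
  (⟨1,-1,-1,1,-1,1,1,-1⟩, ⟨0,1,0,1,0,-1,0,1⟩, ⟨2,0,0,0,0,0,0,0⟩),
  (⟨2,0,0,0,0,0,0,0⟩, ⟨1,0,1,0,1,-2,-1,0⟩, ⟨0,0,0,0,-2,0,0,0⟩),
  (⟨2,0,0,0,0,0,0,0⟩, ⟨0,0,0,0,2,0,0,0⟩, ⟨-1,0,-1,0,-1,2,1,0⟩),
  (⟨0,0,0,0,0,0,0,0⟩, ⟨1,-2,1,0,1,0,1,0⟩, ⟨-1,0,-1,0,1,-2,1,0⟩),
  (⟨1,-2,1,0,1,0,1,0⟩, ⟨-1,0,-1,0,1,-2,1,0⟩, ⟨0,0,0,0,0,0,0,0⟩),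
  (⟨2,0,0,0,0,0,0,0⟩, ⟨-2,0,0,0,0,0,0,0⟩, ⟨1,-2,-1,0,-1,0,-1,0⟩),
  (⟨0,1,0,-1,0,1,0,1⟩, ⟨2,0,0,0,0,0,0,0⟩, ⟨1,-1,-1,1,1,-1,-1,1⟩),
  (⟨1,0,1,0,1,-2,-1,0⟩, ⟨2,0,0,0,0,0,0,0⟩, ⟨0,0,0,0,-2,0,0,0⟩),
  (⟨1,-2,1,0,-1,0,1,0⟩, ⟨2,0,0,0,0,0,0,0⟩, ⟨0,0,0,0,2,0,0,0⟩),
  (⟨2,0,0,0,0,0,0,0⟩, ⟨0,0,0,0,2,0,0,0⟩, ⟨1,-2,1,0,-1,0,1,0⟩),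
  (⟨0,-1,0,1,0,-1,0,-1⟩, ⟨-1,1,1,-1,-1,1,1,-1⟩, ⟨2,0,0,0,0,0,0,0⟩),
  (⟨-1,2,-1,0,1,0,-1,0⟩, ⟨2,0,0,0,0,0,0,0⟩, ⟨0,0,0,0,-2,0,0,0⟩),
  (⟨1,-2,1,0,1,0,1,0⟩, ⟨1,-2,1,0,1,0,1,0⟩, ⟨0,0,0,0,0,0,0,0⟩),
  (⟨2,0,0,0,0,0,0,0⟩, ⟨1,-2,1,0,-1,0,1,0⟩, ⟨0,0,0,0,-2,0,0,0⟩),
  (⟨2,0,0,0,0,0,0,0⟩, ⟨-1,1,1,-1,1,-1,-1,1⟩, ⟨0,-1,0,-1,0,1,0,-1⟩),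
  (⟨2,0,0,0,0,0,0,0⟩, ⟨2,0,0,0,0,0,0,0⟩, ⟨1,-2,-1,0,-1,0,-1,0⟩),
  (⟨2,0,0,0,0,0,0,0⟩, ⟨-1,2,1,0,1,0,1,0⟩, ⟨-2,0,0,0,0,0,0,0⟩),
  (⟨2,0,0,0,0,0,0,0⟩, ⟨0,0,0,0,2,0,0,0⟩, ⟨-1,2,-1,0,1,0,-1,0⟩),
  (⟨2,0,0,0,0,0,0,0⟩, ⟨-1,0,-1,2,-1,0,1,0⟩, ⟨-2,0,0,0,0,0,0,0⟩),
  (⟨-1,1,1,-1,1,-1,-1,1⟩, ⟨0,1,0,1,0,-1,0,1⟩, ⟨2,0,0,0,0,0,0,0⟩),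
  (⟨0,1,0,1,0,-1,0,1⟩, ⟨1,-1,-1,1,-1,1,1,-1⟩, ⟨2,0,0,0,0,0,0,0⟩),
  (⟨1,-1,-1,1,-1,1,1,-1⟩, ⟨2,0,0,0,0,0,0,0⟩, ⟨0,1,0,1,0,-1,0,1⟩),
  (⟨2,0,0,0,0,0,0,0⟩, ⟨0,0,0,0,-2,0,0,0⟩, ⟨1,0,1,0,1,-2,-1,0⟩),
  (⟨2,0,0,0,0,0,0,0⟩, ⟨0,0,0,0,-2,0,0,0⟩, ⟨-1,2,-1,0,1,0,-1,0⟩),
  (⟨2,0,0,0,0,0,0,0⟩, ⟨1,-1,1,-1,-1,1,-1,1⟩, ⟨0,1,0,1,0,1,0,-1⟩),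
  (⟨1,-1,-1,1,-1,1,1,-1⟩, ⟨2,0,0,0,0,0,0,0⟩, ⟨0,-1,0,-1,0,1,0,-1⟩),
  (⟨2,0,0,0,0,0,0,0⟩, ⟨2,0,0,0,0,0,0,0⟩, ⟨-1,2,1,0,1,0,1,0⟩),
  (⟨2,0,0,0,0,0,0,0⟩, ⟨1,-2,-1,0,-1,0,-1,0⟩, ⟨-2,0,0,0,0,0,0,0⟩),
  (⟨0,-1,0,1,0,-1,0,-1⟩, ⟨2,0,0,0,0,0,0,0⟩, ⟨1,-1,-1,1,1,-1,-1,1⟩),
  (⟨2,0,0,0,0,0,0,0⟩, ⟨0,1,0,-1,0,1,0,1⟩, ⟨1,-1,-1,1,1,-1,-1,1⟩),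
  (⟨0,1,0,-1,0,1,0,1⟩, ⟨1,-1,-1,1,1,-1,-1,1⟩, ⟨2,0,0,0,0,0,0,0⟩),
  (⟨-1,2,-1,0,1,0,-1,0⟩, ⟨2,0,0,0,0,0,0,0⟩, ⟨0,0,0,0,2,0,0,0⟩),
  (⟨2,0,0,0,0,0,0,0⟩, ⟨1,-2,1,0,-1,0,1,0⟩, ⟨0,0,0,0,2,0,0,0⟩),
  (⟨-1,1,-1,1,-1,1,-1,1⟩, ⟨0,-1,0,1,0,1,0,1⟩, ⟨2,0,0,0,0,0,0,0⟩),
  (⟨2,0,0,0,0,0,0,0⟩, ⟨-1,0,-1,0,1,0,-1,2⟩, ⟨2,0,0,0,0,0,0,0⟩),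
  (⟨0,1,0,-1,0,1,0,1⟩, ⟨-1,1,1,-1,-1,1,1,-1⟩, ⟨2,0,0,0,0,0,0,0⟩),
  (⟨-1,1,1,-1,-1,1,1,-1⟩, ⟨0,-1,0,1,0,-1,0,-1⟩, ⟨2,0,0,0,0,0,0,0⟩),
  (⟨0,-1,0,1,0,-1,0,-1⟩, ⟨2,0,0,0,0,0,0,0⟩, ⟨-1,1,1,-1,-1,1,1,-1⟩),
  (⟨2,0,0,0,0,0,0,0⟩, ⟨-1,2,-1,0,1,0,-1,0⟩, ⟨0,0,0,0,-2,0,0,0⟩),
  (⟨2,0,0,0,0,0,0,0⟩, ⟨0,-1,0,1,0,-1,0,-1⟩, ⟨1,-1,-1,1,1,-1,-1,1⟩),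
  (⟨1,-2,1,0,1,0,1,0⟩, ⟨-1,2,-1,0,-1,0,-1,0⟩, ⟨0,0,0,0,0,0,0,0⟩),
  (⟨1,-2,1,0,1,0,1,0⟩, ⟨0,0,0,0,0,0,0,0⟩, ⟨1,-2,1,0,1,0,1,0⟩),
  (⟨2,0,0,0,0,0,0,0⟩, ⟨-1,2,-1,0,1,0,-1,0⟩, ⟨0,0,0,0,2,0,0,0⟩),
  (⟨2,0,0,0,0,0,0,0⟩, ⟨1,-1,-1,1,-1,1,1,-1⟩, ⟨0,1,0,1,0,-1,0,1⟩),
  (⟨-1,1,1,-1,1,-1,-1,1⟩, ⟨2,0,0,0,0,0,0,0⟩, ⟨0,-1,0,-1,0,1,0,-1⟩),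
  (⟨2,0,0,0,0,0,0,0⟩, ⟨0,-1,0,-1,0,1,0,-1⟩, ⟨-1,1,1,-1,1,-1,-1,1⟩),
  (⟨2,0,0,0,0,0,0,0⟩, ⟨1,-2,-1,0,-1,0,-1,0⟩, ⟨2,0,0,0,0,0,0,0⟩),
  (⟨-1,2,1,0,1,0,1,0⟩, ⟨2,0,0,0,0,0,0,0⟩, ⟨-2,0,0,0,0,0,0,0⟩),
  (⟨1,-2,1,0,1,0,-1,0⟩, ⟨2,0,0,0,0,0,0,0⟩, ⟨0,0,0,0,0,0,-2,0⟩),
  (⟨1,-1,-1,1,1,-1,-1,1⟩, ⟨2,0,0,0,0,0,0,0⟩, ⟨0,1,0,-1,0,1,0,1⟩),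
  (⟨2,0,0,0,0,0,0,0⟩, ⟨1,0,1,-2,1,0,-1,0⟩, ⟨2,0,0,0,0,0,0,0⟩),
  (⟨-1,0,-1,2,-1,0,1,0⟩, ⟨2,0,0,0,0,0,0,0⟩, ⟨-2,0,0,0,0,0,0,0⟩),
  (⟨2,0,0,0,0,0,0,0⟩, ⟨-2,0,0,0,0,0,0,0⟩, ⟨-1,0,-1,2,-1,0,1,0⟩),
  (⟨0,1,0,1,0,-1,0,1⟩, ⟨-1,1,1,-1,1,-1,-1,1⟩, ⟨2,0,0,0,0,0,0,0⟩),
  (⟨-1,1,1,-1,1,-1,-1,1⟩, ⟨2,0,0,0,0,0,0,0⟩, ⟨0,1,0,1,0,-1,0,1⟩),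
  (⟨0,-1,0,-1,0,1,0,-1⟩, ⟨1,-1,-1,1,-1,1,1,-1⟩, ⟨2,0,0,0,0,0,0,0⟩),
  (⟨0,1,0,1,0,-1,0,1⟩, ⟨2,0,0,0,0,0,0,0⟩, ⟨1,-1,-1,1,-1,1,1,-1⟩),
  (⟨1,0,1,0,1,0,-1,2⟩, ⟨2,0,0,0,0,0,0,0⟩, ⟨0,0,-2,0,0,0,0,0⟩),
  (⟨2,0,0,0,0,0,0,0⟩, ⟨0,1,0,1,0,1,0,-1⟩, ⟨-1,1,-1,1,1,-1,1,-1⟩),
  (⟨0,1,0,1,0,-1,0,1⟩, ⟨2,0,0,0,0,0,0,0⟩, ⟨-1,1,1,-1,1,-1,-1,1⟩),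
  (⟨2,0,0,0,0,0,0,0⟩, ⟨-1,1,-1,1,1,-1,1,-1⟩, ⟨0,-1,0,-1,0,-1,0,1⟩),
  (⟨1,-1,1,-1,-1,1,-1,1⟩, ⟨2,0,0,0,0,0,0,0⟩, ⟨0,1,0,1,0,1,0,-1⟩),
  (⟨2,0,0,0,0,0,0,0⟩, ⟨0,1,0,1,0,1,0,-1⟩, ⟨1,-1,1,-1,-1,1,-1,1⟩),
  (⟨2,0,0,0,0,0,0,0⟩, ⟨1,-1,-1,1,-1,1,1,-1⟩, ⟨0,-1,0,-1,0,1,0,-1⟩),
  (⟨1,-1,-1,1,-1,1,1,-1⟩, ⟨0,-1,0,-1,0,1,0,-1⟩, ⟨2,0,0,0,0,0,0,0⟩),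
  (⟨2,0,0,0,0,0,0,0⟩, ⟨-1,2,1,0,1,0,1,0⟩, ⟨2,0,0,0,0,0,0,0⟩),
  (⟨1,-2,-1,0,-1,0,-1,0⟩, ⟨2,0,0,0,0,0,0,0⟩, ⟨-2,0,0,0,0,0,0,0⟩),
  (⟨2,0,0,0,0,0,0,0⟩, ⟨0,0,2,0,0,0,0,0⟩, ⟨-1,0,-1,0,-1,0,1,-2⟩),
  (⟨0,-1,0,1,0,-1,0,-1⟩, ⟨1,-1,-1,1,1,-1,-1,1⟩, ⟨2,0,0,0,0,0,0,0⟩),
  (⟨2,0,0,0,0,0,0,0⟩, ⟨0,-1,0,1,0,-1,0,-1⟩, ⟨-1,1,1,-1,-1,1,1,-1⟩),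
  (⟨2,0,0,0,0,0,0,0⟩, ⟨1,-1,-1,1,1,-1,-1,1⟩, ⟨0,1,0,-1,0,1,0,1⟩),
  (⟨2,0,0,0,0,0,0,0⟩, ⟨-2,0,0,0,0,0,0,0⟩, ⟨1,0,-1,0,1,-2,1,0⟩),
  (⟨1,-1,-1,1,1,-1,-1,1⟩, ⟨0,1,0,-1,0,1,0,1⟩, ⟨2,0,0,0,0,0,0,0⟩),
  (⟨0,1,0,-1,0,-1,0,-1⟩, ⟨1,-1,1,-1,1,-1,1,-1⟩, ⟨2,0,0,0,0,0,0,0⟩),
  (⟨1,-2,1,0,1,0,1,0⟩, ⟨0,0,0,0,0,0,0,0⟩, ⟨-1,2,-1,0,-1,0,-1,0⟩),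
  (⟨1,-1,1,-1,1,-1,1,-1⟩, ⟨0,-1,0,1,0,1,0,1⟩, ⟨2,0,0,0,0,0,0,0⟩),
  (⟨0,-1,0,1,0,1,0,1⟩, ⟨-1,1,-1,1,-1,1,-1,1⟩, ⟨2,0,0,0,0,0,0,0⟩),
  (⟨-1,1,-1,1,-1,1,-1,1⟩, ⟨2,0,0,0,0,0,0,0⟩, ⟨0,-1,0,1,0,1,0,1⟩),
  (⟨2,0,0,0,0,0,0,0⟩, ⟨1,0,1,0,-1,0,1,-2⟩, ⟨-2,0,0,0,0,0,0,0⟩),
  (⟨-1,0,-1,0,1,0,-1,2⟩, ⟨2,0,0,0,0,0,0,0⟩, ⟨2,0,0,0,0,0,0,0⟩),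
  (⟨2,0,0,0,0,0,0,0⟩, ⟨2,0,0,0,0,0,0,0⟩, ⟨-1,0,-1,0,1,0,-1,2⟩),
  (⟨-1,1,1,-1,-1,1,1,-1⟩, ⟨0,1,0,-1,0,1,0,1⟩, ⟨2,0,0,0,0,0,0,0⟩),
  (⟨0,1,0,-1,0,1,0,1⟩, ⟨2,0,0,0,0,0,0,0⟩, ⟨-1,1,1,-1,-1,1,1,-1⟩),
  (⟨1,-1,-1,1,1,-1,-1,1⟩, ⟨0,-1,0,1,0,-1,0,-1⟩, ⟨2,0,0,0,0,0,0,0⟩),
  (⟨-1,1,1,-1,-1,1,1,-1⟩, ⟨2,0,0,0,0,0,0,0⟩, ⟨0,-1,0,1,0,-1,0,-1⟩),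
  (⟨1,0,-1,2,-1,0,-1,0⟩, ⟨2,0,0,0,0,0,0,0⟩, ⟨0,0,0,0,0,0,-2,0⟩),
  (⟨0,0,0,0,0,0,0,0⟩, ⟨1,-2,1,0,1,0,1,0⟩, ⟨-1,2,-1,0,-1,0,-1,0⟩),
  (⟨2,0,0,0,0,0,0,0⟩, ⟨0,1,0,-1,0,1,0,1⟩, ⟨-1,1,1,-1,-1,1,1,-1⟩),
  (⟨2,0,0,0,0,0,0,0⟩, ⟨1,-1,-1,1,1,-1,-1,1⟩, ⟨0,-1,0,1,0,-1,0,-1⟩),
  (⟨0,0,0,0,0,0,0,0⟩, ⟨1,-2,1,0,1,0,1,0⟩, ⟨1,-2,1,0,1,0,1,0⟩),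
  (⟨2,0,0,0,0,0,0,0⟩, ⟨0,1,0,1,0,-1,0,1⟩, ⟨1,-1,-1,1,-1,1,1,-1⟩),
  (⟨-1,1,1,-1,1,-1,-1,1⟩, ⟨0,-1,0,-1,0,1,0,-1⟩, ⟨2,0,0,0,0,0,0,0⟩),
  (⟨0,-1,0,-1,0,1,0,-1⟩, ⟨2,0,0,0,0,0,0,0⟩, ⟨-1,1,1,-1,1,-1,-1,1⟩),
  (⟨2,0,0,0,0,0,0,0⟩, ⟨0,0,0,0,0,0,2,0⟩, ⟨-1,0,-1,0,1,-2,-1,0⟩),
  (⟨1,-2,-1,0,-1,0,-1,0⟩, ⟨2,0,0,0,0,0,0,0⟩, ⟨2,0,0,0,0,0,0,0⟩),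
  (⟨-1,2,1,0,-1,0,-1,0⟩, ⟨2,0,0,0,0,0,0,0⟩, ⟨0,0,-2,0,0,0,0,0⟩),
  (⟨0,-1,0,-1,0,1,0,-1⟩, ⟨2,0,0,0,0,0,0,0⟩, ⟨1,-1,-1,1,-1,1,1,-1⟩),
  (⟨-1,2,-1,0,-1,0,1,0⟩, ⟨2,0,0,0,0,0,0,0⟩, ⟨0,0,0,0,0,0,-2,0⟩),
  (⟨2,0,0,0,0,0,0,0⟩, ⟨1,-2,1,0,1,0,-1,0⟩, ⟨0,0,0,0,0,0,-2,0⟩),
  (⟨1,0,-1,0,1,0,1,-2⟩, ⟨2,0,0,0,0,0,0,0⟩, ⟨0,0,0,0,0,0,2,0⟩),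
  (⟨-1,1,1,-1,-1,1,1,-1⟩, ⟨2,0,0,0,0,0,0,0⟩, ⟨0,1,0,-1,0,1,0,1⟩),
  (⟨1,0,1,-2,1,0,-1,0⟩, ⟨2,0,0,0,0,0,0,0⟩, ⟨2,0,0,0,0,0,0,0⟩),
  (⟨2,0,0,0,0,0,0,0⟩, ⟨2,0,0,0,0,0,0,0⟩, ⟨1,0,1,-2,1,0,-1,0⟩),
  (⟨1,0,1,-2,1,0,-1,0⟩, ⟨2,0,0,0,0,0,0,0⟩, ⟨-2,0,0,0,0,0,0,0⟩),
  (⟨2,0,0,0,0,0,0,0⟩, ⟨1,0,1,0,1,0,-1,2⟩, ⟨0,0,-2,0,0,0,0,0⟩),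
  (⟨2,0,0,0,0,0,0,0⟩, ⟨-2,0,0,0,0,0,0,0⟩, ⟨1,0,1,-2,1,0,-1,0⟩),
  (⟨2,0,0,0,0,0,0,0⟩, ⟨1,0,1,0,-1,2,1,0⟩, ⟨0,0,0,0,0,0,-2,0⟩),
  (⟨0,-1,0,-1,0,1,0,-1⟩, ⟨-1,1,1,-1,1,-1,-1,1⟩, ⟨2,0,0,0,0,0,0,0⟩),
  (⟨2,0,0,0,0,0,0,0⟩, ⟨0,0,0,0,0,0,-2,0⟩, ⟨1,0,1,0,-1,2,1,0⟩),
  (⟨2,0,0,0,0,0,0,0⟩, ⟨-1,1,1,-1,1,-1,-1,1⟩, ⟨0,1,0,1,0,-1,0,1⟩),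
  (⟨-1,1,-1,1,1,-1,1,-1⟩, ⟨0,-1,0,-1,0,-1,0,1⟩, ⟨2,0,0,0,0,0,0,0⟩),
  (⟨2,0,0,0,0,0,0,0⟩, ⟨-1,0,-1,2,-1,0,1,0⟩, ⟨2,0,0,0,0,0,0,0⟩),
  (⟨-1,0,-1,0,-1,0,1,-2⟩, ⟨2,0,0,0,0,0,0,0⟩, ⟨0,0,-2,0,0,0,0,0⟩),
  (⟨-1,0,1,0,1,-2,1,0⟩, ⟨2,0,0,0,0,0,0,0⟩, ⟨0,0,2,0,0,0,0,0⟩),
  (⟨2,0,0,0,0,0,0,0⟩, ⟨0,-1,0,-1,0,-1,0,1⟩, ⟨1,-1,1,-1,-1,1,-1,1⟩),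
  (⟨0,1,0,1,0,1,0,-1⟩, ⟨2,0,0,0,0,0,0,0⟩, ⟨-1,1,-1,1,1,-1,1,-1⟩),
  (⟨2,0,0,0,0,0,0,0⟩, ⟨-1,1,-1,1,1,-1,1,-1⟩, ⟨0,1,0,1,0,1,0,-1⟩),
  (⟨2,0,0,0,0,0,0,0⟩, ⟨0,1,0,1,0,-1,0,1⟩, ⟨-1,1,1,-1,1,-1,-1,1⟩),
  (⟨-1,1,-1,1,1,-1,1,-1⟩, ⟨2,0,0,0,0,0,0,0⟩, ⟨0,-1,0,-1,0,-1,0,1⟩),
  (⟨2,0,0,0,0,0,0,0⟩, ⟨0,-1,0,-1,0,-1,0,1⟩, ⟨-1,1,-1,1,1,-1,1,-1⟩),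
  (⟨-1,1,-1,1,1,-1,1,-1⟩, ⟨2,0,0,0,0,0,0,0⟩, ⟨0,1,0,1,0,1,0,-1⟩),
  (⟨1,-1,1,-1,-1,1,-1,1⟩, ⟨0,1,0,1,0,1,0,-1⟩, ⟨2,0,0,0,0,0,0,0⟩),
  (⟨2,0,0,0,0,0,0,0⟩, ⟨1,0,1,0,1,0,-1,2⟩, ⟨0,0,2,0,0,0,0,0⟩),
  (⟨0,1,0,1,0,1,0,-1⟩, ⟨2,0,0,0,0,0,0,0⟩, ⟨1,-1,1,-1,-1,1,-1,1⟩),
  (⟨2,0,0,0,0,0,0,0⟩, ⟨0,-1,0,-1,0,1,0,-1⟩, ⟨1,-1,-1,1,-1,1,1,-1⟩),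
  (⟨2,0,0,0,0,0,0,0⟩, ⟨-2,0,0,0,0,0,0,0⟩, ⟨-1,0,1,0,-1,2,-1,0⟩),
  (⟨-1,0,1,0,-1,2,-1,0⟩, ⟨2,0,0,0,0,0,0,0⟩, ⟨2,0,0,0,0,0,0,0⟩),
  (⟨-1,2,1,0,1,0,1,0⟩, ⟨2,0,0,0,0,0,0,0⟩, ⟨2,0,0,0,0,0,0,0⟩),
  (⟨2,0,0,0,0,0,0,0⟩, ⟨0,0,0,0,0,0,-2,0⟩, ⟨1,0,-1,2,-1,0,-1,0⟩),
  (⟨2,0,0,0,0,0,0,0⟩, ⟨1,0,1,-2,1,0,-1,0⟩, ⟨-2,0,0,0,0,0,0,0⟩),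
  (⟨2,0,0,0,0,0,0,0⟩, ⟨0,0,-2,0,0,0,0,0⟩, ⟨1,0,1,0,1,0,-1,2⟩),
  (⟨2,0,0,0,0,0,0,0⟩, ⟨0,0,-2,0,0,0,0,0⟩, ⟨-1,0,1,0,1,-2,1,0⟩),
  (⟨2,0,0,0,0,0,0,0⟩, ⟨-1,0,-1,0,-1,0,1,-2⟩, ⟨0,0,2,0,0,0,0,0⟩),
  (⟨-1,0,1,0,-1,2,-1,0⟩, ⟨2,0,0,0,0,0,0,0⟩, ⟨-2,0,0,0,0,0,0,0⟩),
  (⟨2,0,0,0,0,0,0,0⟩, ⟨-1,1,1,-1,-1,1,1,-1⟩, ⟨0,-1,0,1,0,-1,0,-1⟩),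
  (⟨1,0,-1,2,-1,0,-1,0⟩, ⟨2,0,0,0,0,0,0,0⟩, ⟨0,0,0,0,0,0,2,0⟩),
  (⟨2,0,0,0,0,0,0,0⟩, ⟨2,0,0,0,0,0,0,0⟩, ⟨-1,0,1,0,-1,2,-1,0⟩),
  (⟨2,0,0,0,0,0,0,0⟩, ⟨1,0,-1,0,1,-2,1,0⟩, ⟨-2,0,0,0,0,0,0,0⟩),
  (⟨0,-1,0,1,0,1,0,1⟩, ⟨1,-1,1,-1,1,-1,1,-1⟩, ⟨2,0,0,0,0,0,0,0⟩),
  (⟨1,-1,1,-1,1,-1,1,-1⟩, ⟨0,1,0,-1,0,-1,0,-1⟩, ⟨2,0,0,0,0,0,0,0⟩),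
  (⟨0,1,0,-1,0,-1,0,-1⟩, ⟨2,0,0,0,0,0,0,0⟩, ⟨1,-1,1,-1,1,-1,1,-1⟩),
  (⟨1,-1,1,-1,1,-1,1,-1⟩, ⟨2,0,0,0,0,0,0,0⟩, ⟨0,-1,0,1,0,1,0,1⟩),
  (⟨0,1,0,-1,0,-1,0,-1⟩, ⟨-1,1,-1,1,-1,1,-1,1⟩, ⟨2,0,0,0,0,0,0,0⟩),
  (⟨0,-1,0,1,0,1,0,1⟩, ⟨2,0,0,0,0,0,0,0⟩, ⟨-1,1,-1,1,-1,1,-1,1⟩),
  (⟨2,0,0,0,0,0,0,0⟩, ⟨-1,1,-1,1,-1,1,-1,1⟩, ⟨0,-1,0,1,0,1,0,1⟩),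
  (⟨1,0,1,0,-1,0,1,-2⟩, ⟨2,0,0,0,0,0,0,0⟩, ⟨2,0,0,0,0,0,0,0⟩),
  (⟨1,0,1,0,-1,0,1,-2⟩, ⟨2,0,0,0,0,0,0,0⟩, ⟨-2,0,0,0,0,0,0,0⟩),
  (⟨2,0,0,0,0,0,0,0⟩, ⟨-2,0,0,0,0,0,0,0⟩, ⟨1,0,1,0,-1,0,1,-2⟩),
  (⟨2,0,0,0,0,0,0,0⟩, ⟨1,0,-1,2,-1,0,-1,0⟩, ⟨0,0,0,0,0,0,-2,0⟩),
  (⟨-1,0,-1,2,1,0,-1,0⟩, ⟨2,0,0,0,0,0,0,0⟩, ⟨0,0,2,0,0,0,0,0⟩),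
  (⟨2,0,0,0,0,0,0,0⟩, ⟨0,0,2,0,0,0,0,0⟩, ⟨-1,0,1,0,1,-2,1,0⟩),
  (⟨1,-1,-1,1,1,-1,-1,1⟩, ⟨2,0,0,0,0,0,0,0⟩, ⟨0,-1,0,1,0,-1,0,-1⟩),
  (⟨0,1,0,1,0,1,0,-1⟩, ⟨1,-1,1,-1,-1,1,-1,1⟩, ⟨2,0,0,0,0,0,0,0⟩),
  (⟨-1,0,1,-2,1,0,1,0⟩, ⟨2,0,0,0,0,0,0,0⟩, ⟨0,0,0,0,0,0,-2,0⟩),
  (⟨1,0,1,0,-1,2,1,0⟩, ⟨2,0,0,0,0,0,0,0⟩, ⟨0,0,0,0,0,0,2,0⟩),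
  (⟨2,0,0,0,0,0,0,0⟩, ⟨-1,1,1,-1,-1,1,1,-1⟩, ⟨0,1,0,-1,0,1,0,1⟩),
  (⟨2,0,0,0,0,0,0,0⟩, ⟨1,-1,1,-1,-1,1,-1,1⟩, ⟨0,-1,0,-1,0,-1,0,1⟩),
  (⟨2,0,0,0,0,0,0,0⟩, ⟨0,0,0,0,0,0,-2,0⟩, ⟨-1,0,1,-2,1,0,1,0⟩),
  (⟨2,0,0,0,0,0,0,0⟩, ⟨-1,0,-1,0,1,-2,-1,0⟩, ⟨0,0,0,0,0,0,2,0⟩),
  (⟨1,-2,-1,0,1,0,1,0⟩, ⟨2,0,0,0,0,0,0,0⟩, ⟨0,0,-2,0,0,0,0,0⟩),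
  (⟨2,0,0,0,0,0,0,0⟩, ⟨-1,2,1,0,-1,0,-1,0⟩, ⟨0,0,-2,0,0,0,0,0⟩),
  (⟨2,0,0,0,0,0,0,0⟩, ⟨-1,2,-1,0,-1,0,1,0⟩, ⟨0,0,0,0,0,0,-2,0⟩),
  (⟨-1,0,1,0,-1,0,-1,2⟩, ⟨2,0,0,0,0,0,0,0⟩, ⟨0,0,0,0,0,0,2,0⟩),
  (⟨2,0,0,0,0,0,0,0⟩, ⟨-1,2,-1,0,-1,0,1,0⟩, ⟨0,0,0,0,0,0,2,0⟩),
  (⟨2,0,0,0,0,0,0,0⟩, ⟨0,0,0,0,0,0,-2,0⟩, ⟨1,-2,1,0,1,0,-1,0⟩),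
  (⟨-1,1,-1,1,-1,1,-1,1⟩, ⟨2,0,0,0,0,0,0,0⟩, ⟨0,1,0,-1,0,-1,0,-1⟩),
  (⟨2,0,0,0,0,0,0,0⟩, ⟨1,0,-1,0,1,0,1,-2⟩, ⟨0,0,0,0,0,0,2,0⟩),
  (⟨-1,0,-1,2,-1,0,1,0⟩, ⟨2,0,0,0,0,0,0,0⟩, ⟨2,0,0,0,0,0,0,0⟩),
  (⟨2,0,0,0,0,0,0,0⟩, ⟨-1,2,1,0,-1,0,-1,0⟩, ⟨0,0,2,0,0,0,0,0⟩),
  (⟨0,-1,0,1,0,1,0,1⟩, ⟨2,0,0,0,0,0,0,0⟩, ⟨1,-1,1,-1,1,-1,1,-1⟩),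
  (⟨2,0,0,0,0,0,0,0⟩, ⟨2,0,0,0,0,0,0,0⟩, ⟨-1,0,-1,2,-1,0,1,0⟩),
  (⟨2,0,0,0,0,0,0,0⟩, ⟨0,0,-2,0,0,0,0,0⟩, ⟨1,-2,-1,0,1,0,1,0⟩),
  (⟨1,0,1,0,-1,2,1,0⟩, ⟨2,0,0,0,0,0,0,0⟩, ⟨0,0,0,0,0,0,-2,0⟩),
  (⟨2,0,0,0,0,0,0,0⟩, ⟨0,0,0,0,0,0,2,0⟩, ⟨-1,0,1,-2,1,0,1,0⟩),
  (⟨1,-1,1,-1,-1,1,-1,1⟩, ⟨0,-1,0,-1,0,-1,0,1⟩, ⟨2,0,0,0,0,0,0,0⟩),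
  (⟨0,-1,0,-1,0,-1,0,1⟩, ⟨-1,1,-1,1,1,-1,1,-1⟩, ⟨2,0,0,0,0,0,0,0⟩),
  (⟨2,0,0,0,0,0,0,0⟩, ⟨-1,0,-1,0,-1,0,1,-2⟩, ⟨0,0,-2,0,0,0,0,0⟩),
  (⟨1,0,-1,0,-1,2,-1,0⟩, ⟨2,0,0,0,0,0,0,0⟩, ⟨0,0,2,0,0,0,0,0⟩),
  (⟨2,0,0,0,0,0,0,0⟩, ⟨-1,0,1,0,1,-2,1,0⟩, ⟨0,0,2,0,0,0,0,0⟩),
  (⟨0,0,0,0,0,0,0,0⟩, ⟨1,-2,1,0,1,0,1,0⟩, ⟨1,0,-1,2,-1,0,1,0⟩),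
  (⟨0,-1,0,-1,0,-1,0,1⟩, ⟨2,0,0,0,0,0,0,0⟩, ⟨1,-1,1,-1,-1,1,-1,1⟩),
  (⟨0,-1,0,-1,0,-1,0,1⟩, ⟨2,0,0,0,0,0,0,0⟩, ⟨-1,1,-1,1,1,-1,1,-1⟩),
  (⟨0,1,0,1,0,1,0,-1⟩, ⟨-1,1,-1,1,1,-1,1,-1⟩, ⟨2,0,0,0,0,0,0,0⟩),
  (⟨2,0,0,0,0,0,0,0⟩, ⟨1,0,-1,2,-1,0,-1,0⟩, ⟨0,0,0,0,0,0,2,0⟩),
  (⟨1,0,-1,0,1,-2,1,0⟩, ⟨2,0,0,0,0,0,0,0⟩, ⟨2,0,0,0,0,0,0,0⟩),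
  (⟨1,0,1,0,1,0,-1,2⟩, ⟨2,0,0,0,0,0,0,0⟩, ⟨0,0,2,0,0,0,0,0⟩),
  (⟨1,-1,1,-1,-1,1,-1,1⟩, ⟨2,0,0,0,0,0,0,0⟩, ⟨0,-1,0,-1,0,-1,0,1⟩),
  (⟨2,0,0,0,0,0,0,0⟩, ⟨1,-2,-1,0,1,0,1,0⟩, ⟨0,0,-2,0,0,0,0,0⟩),
  (⟨1,0,-1,0,1,-2,1,0⟩, ⟨2,0,0,0,0,0,0,0⟩, ⟨-2,0,0,0,0,0,0,0⟩),
  (⟨-1,1,-1,1,1,-1,1,-1⟩, ⟨0,1,0,1,0,1,0,-1⟩, ⟨2,0,0,0,0,0,0,0⟩),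
  (⟨2,0,0,0,0,0,0,0⟩, ⟨0,0,0,0,2,0,0,0⟩, ⟨1,0,-1,2,1,0,1,0⟩),
  (⟨2,0,0,0,0,0,0,0⟩, ⟨0,0,0,0,0,0,-2,0⟩, ⟨-1,0,-1,0,1,-2,-1,0⟩),
  (⟨2,0,0,0,0,0,0,0⟩, ⟨0,0,2,0,0,0,0,0⟩, ⟨1,0,1,0,1,0,-1,2⟩),
  (⟨-1,0,-1,0,1,0,-1,2⟩, ⟨2,0,0,0,0,0,0,0⟩, ⟨-2,0,0,0,0,0,0,0⟩),
  (⟨2,0,0,0,0,0,0,0⟩, ⟨-1,1,-1,1,-1,1,-1,1⟩, ⟨0,1,0,-1,0,-1,0,-1⟩),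
  (⟨2,0,0,0,0,0,0,0⟩, ⟨2,0,0,0,0,0,0,0⟩, ⟨1,0,-1,0,1,-2,1,0⟩),
  (⟨2,0,0,0,0,0,0,0⟩, ⟨-1,0,1,0,-1,2,-1,0⟩, ⟨-2,0,0,0,0,0,0,0⟩),
  (⟨2,0,0,0,0,0,0,0⟩, ⟨-1,0,1,0,-1,2,-1,0⟩, ⟨2,0,0,0,0,0,0,0⟩),
  (⟨2,0,0,0,0,0,0,0⟩, ⟨1,0,1,0,-1,0,1,-2⟩, ⟨2,0,0,0,0,0,0,0⟩),
  (⟨2,0,0,0,0,0,0,0⟩, ⟨0,0,0,0,0,0,2,0⟩, ⟨1,0,1,0,-1,2,1,0⟩),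
  (⟨2,0,0,0,0,0,0,0⟩, ⟨0,0,2,0,0,0,0,0⟩, ⟨1,0,-1,0,-1,2,-1,0⟩),
  (⟨2,0,0,0,0,0,0,0⟩, ⟨-1,0,1,0,1,-2,1,0⟩, ⟨0,0,-2,0,0,0,0,0⟩),
  (⟨2,0,0,0,0,0,0,0⟩, ⟨0,-1,0,1,0,1,0,1⟩, ⟨1,-1,1,-1,1,-1,1,-1⟩),
  (⟨-1,0,-1,0,-1,0,1,-2⟩, ⟨2,0,0,0,0,0,0,0⟩, ⟨0,0,2,0,0,0,0,0⟩),
  (⟨2,0,0,0,0,0,0,0⟩, ⟨0,-1,0,1,0,1,0,1⟩, ⟨-1,1,-1,1,-1,1,-1,1⟩),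
  (⟨-1,0,1,-2,1,0,1,0⟩, ⟨2,0,0,0,0,0,0,0⟩, ⟨0,0,0,0,0,0,2,0⟩),
  (⟨-1,0,-1,0,1,-2,-1,0⟩, ⟨2,0,0,0,0,0,0,0⟩, ⟨0,0,0,0,0,0,-2,0⟩),
  (⟨1,-2,-1,0,1,0,1,0⟩, ⟨2,0,0,0,0,0,0,0⟩, ⟨0,0,2,0,0,0,0,0⟩),
  (⟨-1,1,-1,1,-1,1,-1,1⟩, ⟨0,1,0,-1,0,-1,0,-1⟩, ⟨2,0,0,0,0,0,0,0⟩),
  (⟨1,-1,1,-1,1,-1,1,-1⟩, ⟨2,0,0,0,0,0,0,0⟩, ⟨0,1,0,-1,0,-1,0,-1⟩),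
  (⟨2,0,0,0,0,0,0,0⟩, ⟨0,1,0,-1,0,-1,0,-1⟩, ⟨1,-1,1,-1,1,-1,1,-1⟩),
  (⟨2,0,0,0,0,0,0,0⟩, ⟨1,-1,1,-1,1,-1,1,-1⟩, ⟨0,-1,0,1,0,1,0,1⟩),
  (⟨2,0,0,0,0,0,0,0⟩, ⟨-1,0,1,-2,1,0,1,0⟩, ⟨0,0,0,0,0,0,2,0⟩),
  (⟨0,1,0,-1,0,-1,0,-1⟩, ⟨2,0,0,0,0,0,0,0⟩, ⟨-1,1,-1,1,-1,1,-1,1⟩),
  (⟨2,0,0,0,0,0,0,0⟩, ⟨1,-1,1,-1,1,-1,1,-1⟩, ⟨0,1,0,-1,0,-1,0,-1⟩),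
  (⟨2,0,0,0,0,0,0,0⟩, ⟨1,-2,1,0,1,0,-1,0⟩, ⟨0,0,0,0,0,0,2,0⟩),
  (⟨2,0,0,0,0,0,0,0⟩, ⟨-2,0,0,0,0,0,0,0⟩, ⟨-1,0,-1,0,1,0,-1,2⟩),
  (⟨2,0,0,0,0,0,0,0⟩, ⟨1,0,-1,0,-1,2,-1,0⟩, ⟨0,0,-2,0,0,0,0,0⟩),
  (⟨1,0,1,-2,-1,0,1,0⟩, ⟨2,0,0,0,0,0,0,0⟩, ⟨0,0,2,0,0,0,0,0⟩),
  (⟨2,0,0,0,0,0,0,0⟩, ⟨-1,0,-1,2,1,0,-1,0⟩, ⟨0,0,2,0,0,0,0,0⟩),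
  (⟨2,0,0,0,0,0,0,0⟩, ⟨0,0,-2,0,0,0,0,0⟩, ⟨1,0,-1,0,-1,2,-1,0⟩),
  (⟨2,0,0,0,0,0,0,0⟩, ⟨-1,0,-1,0,1,0,-1,2⟩, ⟨-2,0,0,0,0,0,0,0⟩),
  (⟨0,-1,0,-1,0,-1,0,1⟩, ⟨1,-1,1,-1,-1,1,-1,1⟩, ⟨2,0,0,0,0,0,0,0⟩),
  (⟨2,0,0,0,0,0,0,0⟩, ⟨-1,0,1,-2,1,0,1,0⟩, ⟨0,0,0,0,0,0,-2,0⟩),
  (⟨-1,0,-1,0,1,-2,-1,0⟩, ⟨2,0,0,0,0,0,0,0⟩, ⟨0,0,0,0,0,0,2,0⟩),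
  (⟨2,0,0,0,0,0,0,0⟩, ⟨1,0,1,0,-1,2,1,0⟩, ⟨0,0,0,0,0,0,2,0⟩),
  (⟨2,0,0,0,0,0,0,0⟩, ⟨0,0,0,0,0,0,2,0⟩, ⟨1,0,-1,2,-1,0,-1,0⟩),
  (⟨1,-2,1,0,1,0,-1,0⟩, ⟨2,0,0,0,0,0,0,0⟩, ⟨0,0,0,0,0,0,2,0⟩),
  (⟨2,0,0,0,0,0,0,0⟩, ⟨1,-2,-1,0,1,0,1,0⟩, ⟨0,0,2,0,0,0,0,0⟩),
  (⟨2,0,0,0,0,0,0,0⟩, ⟨0,0,-2,0,0,0,0,0⟩, ⟨-1,2,1,0,-1,0,-1,0⟩),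
  (⟨2,0,0,0,0,0,0,0⟩, ⟨0,0,0,0,0,0,-2,0⟩, ⟨-1,2,-1,0,-1,0,1,0⟩),
  (⟨2,0,0,0,0,0,0,0⟩, ⟨-1,0,1,0,-1,0,-1,2⟩, ⟨0,0,0,0,0,0,2,0⟩),
  (⟨-1,2,-1,0,-1,0,1,0⟩, ⟨2,0,0,0,0,0,0,0⟩, ⟨0,0,0,0,0,0,2,0⟩),
  (⟨2,0,0,0,0,0,0,0⟩, ⟨0,0,0,0,0,0,2,0⟩, ⟨-1,2,-1,0,-1,0,1,0⟩),
  (⟨2,0,0,0,0,0,0,0⟩, ⟨0,0,0,0,-2,0,0,0⟩, ⟨1,0,-1,0,-1,0,-1,2⟩),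
  (⟨2,0,0,0,0,0,0,0⟩, ⟨0,0,0,0,0,0,2,0⟩, ⟨1,0,-1,0,1,0,1,-2⟩),
  (⟨-1,0,1,-2,-1,0,-1,0⟩, ⟨2,0,0,0,0,0,0,0⟩, ⟨0,0,0,0,-2,0,0,0⟩),
  (⟨2,0,0,0,0,0,0,0⟩, ⟨-1,0,1,0,-1,0,-1,2⟩, ⟨0,0,0,0,0,0,-2,0⟩),
  (⟨-1,0,1,0,1,0,1,-2⟩, ⟨2,0,0,0,0,0,0,0⟩, ⟨0,0,0,0,2,0,0,0⟩),
  (⟨-1,2,1,0,-1,0,-1,0⟩, ⟨2,0,0,0,0,0,0,0⟩, ⟨0,0,2,0,0,0,0,0⟩),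
  (⟨2,0,0,0,0,0,0,0⟩, ⟨0,0,2,0,0,0,0,0⟩, ⟨-1,2,1,0,-1,0,-1,0⟩),
  (⟨2,0,0,0,0,0,0,0⟩, ⟨0,0,2,0,0,0,0,0⟩, ⟨1,0,1,-2,-1,0,1,0⟩),
  (⟨1,-2,1,0,1,0,1,0⟩, ⟨-1,0,1,-2,1,0,-1,0⟩, ⟨0,0,0,0,0,0,0,0⟩),
  (⟨2,0,0,0,0,0,0,0⟩, ⟨0,0,-2,0,0,0,0,0⟩, ⟨-1,0,-1,0,-1,0,1,-2⟩),
  (⟨2,0,0,0,0,0,0,0⟩, ⟨0,0,0,0,-2,0,0,0⟩, ⟨-1,0,1,-2,-1,0,-1,0⟩),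
  (⟨2,0,0,0,0,0,0,0⟩, ⟨1,0,-1,0,-1,2,-1,0⟩, ⟨0,0,2,0,0,0,0,0⟩),
  (⟨1,-2,1,0,1,0,1,0⟩, ⟨0,0,0,0,0,0,0,0⟩, ⟨1,0,-1,2,-1,0,1,0⟩),
  (⟨0,0,0,0,0,0,0,0⟩, ⟨1,-2,1,0,1,0,1,0⟩, ⟨-1,0,1,-2,1,0,-1,0⟩),
  (⟨2,0,0,0,0,0,0,0⟩, ⟨0,0,0,0,-2,0,0,0⟩, ⟨-1,0,1,0,1,0,1,-2⟩),
  (⟨2,0,0,0,0,0,0,0⟩, ⟨0,1,0,-1,0,-1,0,-1⟩, ⟨-1,1,-1,1,-1,1,-1,1⟩),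
  (⟨2,0,0,0,0,0,0,0⟩, ⟨1,0,-1,0,1,-2,1,0⟩, ⟨2,0,0,0,0,0,0,0⟩),
  (⟨1,0,-1,0,-1,2,-1,0⟩, ⟨2,0,0,0,0,0,0,0⟩, ⟨0,0,-2,0,0,0,0,0⟩),
  (⟨2,0,0,0,0,0,0,0⟩, ⟨1,0,-1,2,1,0,1,0⟩, ⟨0,0,0,0,2,0,0,0⟩),
  (⟨2,0,0,0,0,0,0,0⟩, ⟨-1,0,-1,0,1,-2,-1,0⟩, ⟨0,0,0,0,0,0,-2,0⟩),
  (⟨2,0,0,0,0,0,0,0⟩, ⟨2,0,0,0,0,0,0,0⟩, ⟨1,0,1,0,-1,0,1,-2⟩),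
  (⟨-1,0,1,0,1,-2,1,0⟩, ⟨2,0,0,0,0,0,0,0⟩, ⟨0,0,-2,0,0,0,0,0⟩),
  (⟨1,0,-1,2,1,0,1,0⟩, ⟨2,0,0,0,0,0,0,0⟩, ⟨0,0,0,0,-2,0,0,0⟩),
  (⟨2,0,0,0,0,0,0,0⟩, ⟨0,0,-2,0,0,0,0,0⟩, ⟨-1,0,-1,2,1,0,-1,0⟩),
  (⟨-1,0,-1,2,1,0,-1,0⟩, ⟨2,0,0,0,0,0,0,0⟩, ⟨0,0,-2,0,0,0,0,0⟩),
  (⟨2,0,0,0,0,0,0,0⟩, ⟨0,0,0,0,2,0,0,0⟩, ⟨-1,0,1,0,1,0,1,-2⟩),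
  (⟨2,0,0,0,0,0,0,0⟩, ⟨0,0,0,0,-2,0,0,0⟩, ⟨1,0,-1,2,1,0,1,0⟩),
  (⟨2,0,0,0,0,0,0,0⟩, ⟨0,0,0,0,0,0,2,0⟩, ⟨1,-2,1,0,1,0,-1,0⟩),
  (⟨2,0,0,0,0,0,0,0⟩, ⟨1,0,1,-2,-1,0,1,0⟩, ⟨0,0,2,0,0,0,0,0⟩),
  (⟨2,0,0,0,0,0,0,0⟩, ⟨1,0,1,-2,-1,0,1,0⟩, ⟨0,0,-2,0,0,0,0,0⟩),
  (⟨2,0,0,0,0,0,0,0⟩, ⟨0,0,2,0,0,0,0,0⟩, ⟨-1,0,-1,2,1,0,-1,0⟩),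
  (⟨2,0,0,0,0,0,0,0⟩, ⟨0,0,0,0,2,0,0,0⟩, ⟨1,0,-1,0,-1,0,-1,2⟩),
  (⟨0,0,0,0,0,0,0,0⟩, ⟨1,-2,1,0,1,0,1,0⟩, ⟨1,0,-1,0,1,0,-1,2⟩),
  (⟨-1,0,1,0,-1,0,-1,2⟩, ⟨2,0,0,0,0,0,0,0⟩, ⟨0,0,0,0,0,0,-2,0⟩),
  (⟨2,0,0,0,0,0,0,0⟩, ⟨0,0,2,0,0,0,0,0⟩, ⟨1,-2,-1,0,1,0,1,0⟩),
  (⟨2,0,0,0,0,0,0,0⟩, ⟨0,0,0,0,2,0,0,0⟩, ⟨-1,0,1,-2,-1,0,-1,0⟩),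
  (⟨2,0,0,0,0,0,0,0⟩, ⟨0,0,0,0,0,0,2,0⟩, ⟨-1,0,1,0,-1,0,-1,2⟩),
  (⟨2,0,0,0,0,0,0,0⟩, ⟨1,0,-1,0,1,0,1,-2⟩, ⟨0,0,0,0,0,0,-2,0⟩),
  (⟨1,0,-1,0,1,0,1,-2⟩, ⟨2,0,0,0,0,0,0,0⟩, ⟨0,0,0,0,0,0,-2,0⟩),
  (⟨2,0,0,0,0,0,0,0⟩, ⟨0,0,0,0,0,0,-2,0⟩, ⟨1,0,-1,0,1,0,1,-2⟩),
  (⟨2,0,0,0,0,0,0,0⟩, ⟨1,0,-1,0,-1,0,-1,2⟩, ⟨0,0,0,0,-2,0,0,0⟩),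
  (⟨2,0,0,0,0,0,0,0⟩, ⟨0,0,0,0,0,0,-2,0⟩, ⟨-1,0,1,0,-1,0,-1,2⟩),
  (⟨2,0,0,0,0,0,0,0⟩, ⟨-1,0,1,-2,-1,0,-1,0⟩, ⟨0,0,0,0,-2,0,0,0⟩),
  (⟨1,0,-1,0,-1,0,-1,2⟩, ⟨2,0,0,0,0,0,0,0⟩, ⟨0,0,0,0,2,0,0,0⟩),
  (⟨2,0,0,0,0,0,0,0⟩, ⟨-1,0,1,0,1,0,1,-2⟩, ⟨0,0,0,0,2,0,0,0⟩),
  (⟨1,0,1,-2,-1,0,1,0⟩, ⟨2,0,0,0,0,0,0,0⟩, ⟨0,0,-2,0,0,0,0,0⟩),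
  (⟨2,0,0,0,0,0,0,0⟩, ⟨0,0,-2,0,0,0,0,0⟩, ⟨1,0,1,-2,-1,0,1,0⟩),
  (⟨1,-2,1,0,1,0,1,0⟩, ⟨1,0,-1,2,-1,0,1,0⟩, ⟨0,0,0,0,0,0,0,0⟩),
  (⟨1,-2,1,0,1,0,1,0⟩, ⟨0,0,0,0,0,0,0,0⟩, ⟨-1,0,1,-2,1,0,-1,0⟩),
  (⟨2,0,0,0,0,0,0,0⟩, ⟨-1,0,1,-2,-1,0,-1,0⟩, ⟨0,0,0,0,2,0,0,0⟩),
  (⟨2,0,0,0,0,0,0,0⟩, ⟨-1,0,1,0,1,0,1,-2⟩, ⟨0,0,0,0,-2,0,0,0⟩),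
  (⟨1,-2,1,0,1,0,1,0⟩, ⟨1,0,-1,0,1,0,-1,2⟩, ⟨0,0,0,0,0,0,0,0⟩),
  (⟨1,0,-1,2,1,0,1,0⟩, ⟨2,0,0,0,0,0,0,0⟩, ⟨0,0,0,0,2,0,0,0⟩),
  (⟨1,0,-1,0,-1,0,-1,2⟩, ⟨2,0,0,0,0,0,0,0⟩, ⟨0,0,0,0,-2,0,0,0⟩),
  (⟨2,0,0,0,0,0,0,0⟩, ⟨1,0,-1,2,1,0,1,0⟩, ⟨0,0,0,0,-2,0,0,0⟩),
  (⟨2,0,0,0,0,0,0,0⟩, ⟨-1,0,-1,2,1,0,-1,0⟩, ⟨0,0,-2,0,0,0,0,0⟩),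
  (⟨-1,0,1,-2,-1,0,-1,0⟩, ⟨2,0,0,0,0,0,0,0⟩, ⟨0,0,0,0,2,0,0,0⟩),
  (⟨2,0,0,0,0,0,0,0⟩, ⟨1,0,-1,0,-1,0,-1,2⟩, ⟨0,0,0,0,2,0,0,0⟩),
  (⟨1,-2,1,0,1,0,1,0⟩, ⟨0,0,0,0,0,0,0,0⟩, ⟨1,0,-1,0,1,0,-1,2⟩),
  (⟨0,0,0,0,0,0,0,0⟩, ⟨1,-2,1,0,1,0,1,0⟩, ⟨-1,0,1,0,-1,0,1,-2⟩),
  (⟨-1,0,1,0,1,0,1,-2⟩, ⟨2,0,0,0,0,0,0,0⟩, ⟨0,0,0,0,-2,0,0,0⟩),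
  (⟨1,-2,1,0,1,0,1,0⟩, ⟨-1,0,1,0,-1,0,1,-2⟩, ⟨0,0,0,0,0,0,0,0⟩),
  (⟨1,-2,1,0,1,0,1,0⟩, ⟨0,0,0,0,0,0,0,0⟩, ⟨-1,0,1,0,-1,0,1,-2⟩)]
def B : List V := [(⟨4,0,0,0,0,0,0,0⟩, ⟨0,0,0,0,0,0,0,0⟩, ⟨0,0,0,0,0,0,0,0⟩),
  (⟨1,-2,1,0,1,0,1,0⟩, ⟨-1,2,-1,0,-1,0,-1,0⟩, ⟨0,0,0,0,0,0,0,0⟩),
  (⟨0,0,0,0,0,0,0,0⟩, ⟨1,-2,1,0,1,0,1,0⟩, ⟨-1,2,-1,0,-1,0,-1,0⟩),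
  (⟨2,0,0,0,0,0,0,0⟩, ⟨-1,0,-1,0,-1,2,1,0⟩, ⟨0,0,0,0,-2,0,0,0⟩)]
def St : List (Nat × Nat × Q) := [(1, 0, ⟨2,0,0,0,0,0,0,0⟩),
  (3, 0, ⟨2,0,0,0,0,0,0,0⟩),
  (2, 1, ⟨2,0,0,0,0,0,0,0⟩),
  (3, 1, ⟨0,0,0,0,2,0,0,0⟩),
  (0, 2, ⟨-2,0,0,0,0,0,0,0⟩),
  (1, 2, ⟨2,0,0,0,0,0,0,0⟩),
  (2, 2, ⟨2,0,0,0,0,0,0,0⟩),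
  (3, 3, ⟨0,0,0,0,2,0,0,0⟩),
  (0, 4, ⟨-2,0,0,0,0,0,0,0⟩),
  (1, 4, ⟨2,0,0,0,0,0,0,0⟩),
  (2, 4, ⟨2,0,0,0,0,0,0,0⟩),
  (1, 5, ⟨2,0,0,0,0,0,0,0⟩),
  (2, 5, ⟨2,0,0,0,0,0,0,0⟩),
  (0, 6, ⟨2,0,0,0,0,0,0,0⟩),
  (2, 6, ⟨0,0,0,0,-2,0,0,0⟩),
  (3, 6, ⟨2,0,0,0,0,0,0,0⟩),
  (1, 7, ⟨0,0,0,0,-2,0,0,0⟩),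
  (3, 7, ⟨1,0,-1,0,-1,0,1,0⟩),
  (0, 8, ⟨-2,0,0,0,0,0,0,0⟩),
  (2, 8, ⟨2,0,0,0,0,0,0,0⟩),
  (1, 9, ⟨2,0,0,0,0,0,0,0⟩),
  (2, 9, ⟨2,0,0,0,0,0,0,0⟩),
  (3, 10, ⟨0,0,0,0,2,0,0,0⟩),
  (3, 11, ⟨0,0,0,0,-2,0,0,0⟩),
  (0, 12, ⟨2,0,0,0,0,0,0,0⟩),
  (2, 12, ⟨0,0,0,0,2,0,0,0⟩),
  (1, 13, ⟨0,0,0,0,2,0,0,0⟩),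
  (3, 13, ⟨-1,0,1,0,-1,0,-1,0⟩),
  (2, 14, ⟨0,0,0,0,-2,0,0,0⟩),
  (3, 14, ⟨0,0,0,0,2,0,0,0⟩),
  (1, 15, ⟨2,0,0,0,0,0,0,0⟩),
  (3, 15, ⟨0,-1,0,0,1,-1,-1,0⟩),
  (0, 16, ⟨-2,0,0,0,0,0,0,0⟩),
  (2, 16, ⟨2,0,0,0,0,0,0,0⟩),
  (0, 17, ⟨-2,0,0,0,0,0,0,0⟩),
  (3, 17, ⟨0,1,0,0,1,-1,1,0⟩),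
  (0, 18, ⟨2,0,0,0,0,0,0,0⟩),
  (1, 18, ⟨2,0,0,0,0,0,0,0⟩),
  (2, 18, ⟨2,0,0,0,0,0,0,0⟩),
  (2, 19, ⟨2,0,0,0,0,0,0,0⟩),
  (1, 20, ⟨0,0,0,0,-2,0,0,0⟩),
  (3, 20, ⟨1,0,-1,0,-1,0,-1,0⟩),
  (3, 22, ⟨0,0,0,0,-2,0,0,0⟩),
  (0, 23, ⟨-2,0,0,0,0,0,0,0⟩),
  (2, 23, ⟨2,0,0,0,0,0,0,0⟩),
  (0, 24, ⟨2,0,0,0,0,0,0,0⟩),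
  (1, 24, ⟨2,0,0,0,0,0,0,0⟩),
  (2, 24, ⟨2,0,0,0,0,0,0,0⟩),
  (2, 25, ⟨0,0,0,0,2,0,0,0⟩),
  (1, 26, ⟨2,0,0,0,0,0,0,0⟩),
  (3, 26, ⟨0,1,0,0,-1,1,-1,0⟩),
  (3, 27, ⟨1,-1,-1,0,0,-1,0,0⟩),
  (0, 28, ⟨2,0,0,0,0,0,0,0⟩),
  (1, 28, ⟨2,0,0,0,0,0,0,0⟩),
  (2, 28, ⟨2,0,0,0,0,0,0,0⟩),
  (1, 29, ⟨2,0,0,0,0,0,0,0⟩),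
  (3, 29, ⟨-1,1,1,0,0,-1,0,0⟩),
  (0, 30, ⟨-2,0,0,0,0,0,0,0⟩),
  (2, 30, ⟨2,0,0,0,0,0,0,0⟩),
  (0, 31, ⟨-2,0,0,0,0,0,0,0⟩),
  (0, 32, ⟨-2,0,0,0,0,0,0,0⟩),
  (1, 32, ⟨2,0,0,0,0,0,0,0⟩),
  (2, 32, ⟨2,0,0,0,0,0,0,0⟩),
  (2, 33, ⟨2,0,0,0,0,0,0,0⟩),
  (1, 34, ⟨2,0,0,0,0,0,0,0⟩),
  (3, 34, ⟨1,-1,-1,0,0,1,0,0⟩),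
  (3, 35, ⟨1,0,-1,1,0,0,0,1⟩),
  (0, 36, ⟨-2,0,0,0,0,0,0,0⟩),
  (1, 36, ⟨2,0,0,0,0,0,0,0⟩),
  (2, 36, ⟨2,0,0,0,0,0,0,0⟩),
  (1, 37, ⟨2,0,0,0,0,0,0,0⟩),
  (2, 37, ⟨2,0,0,0,0,0,0,0⟩),
  (0, 38, ⟨2,0,0,0,0,0,0,0⟩),
  (2, 38, ⟨2,0,0,0,0,0,0,0⟩),
  (3, 38, ⟨-1,1,0,-1,0,0,1,0⟩),
  (3, 40, ⟨1,0,1,0,1,0,1,0⟩),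
  (3, 41, ⟨1,0,-1,1,0,0,0,1⟩),
  (0, 42, ⟨-2,0,0,0,0,0,0,0⟩),
  (1, 42, ⟨2,0,0,0,0,0,0,0⟩),
  (2, 42, ⟨2,0,0,0,0,0,0,0⟩),
  (1, 43, ⟨2,0,0,0,0,0,0,0⟩),
  (2, 43, ⟨2,0,0,0,0,0,0,0⟩),
  (2, 44, ⟨2,0,0,0,0,0,0,0⟩),
  (1, 45, ⟨2,0,0,0,0,0,0,0⟩),
  (3, 45, ⟨1,0,1,-1,0,0,0,1⟩),
  (2, 46, ⟨2,0,0,0,0,0,0,0⟩),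
  (0, 47, ⟨-2,0,0,0,0,0,0,0⟩),
  (2, 47, ⟨2,0,0,0,0,0,0,0⟩),
  (3, 47, ⟨1,-1,1,0,0,-1,0,0⟩),
  (1, 48, ⟨2,0,0,0,0,0,0,0⟩),
  (3, 49, ⟨-1,1,-1,0,0,-1,0,0⟩),
  (3, 50, ⟨0,-1,0,0,1,-1,1,0⟩),
  (0, 51, ⟨2,0,0,0,0,0,0,0⟩),
  (1, 51, ⟨2,0,0,0,0,0,0,0⟩),
  (2, 51, ⟨2,0,0,0,0,0,0,0⟩),
  (0, 52, ⟨-2,0,0,0,0,0,0,0⟩),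
  (1, 52, ⟨2,0,0,0,0,0,0,0⟩),
  (2, 52, ⟨2,0,0,0,0,0,0,0⟩),
  (1, 53, ⟨2,0,0,0,0,0,0,0⟩),
  (2, 53, ⟨2,0,0,0,0,0,0,0⟩),
  (0, 54, ⟨2,0,0,0,0,0,0,0⟩),
  (2, 54, ⟨2,0,0,0,0,0,0,0⟩),
  (3, 54, ⟨0,1,1,0,0,0,-1,1⟩),
  (3, 55, ⟨1,0,1,-1,0,0,0,-1⟩),
  (0, 57, ⟨-2,0,0,0,0,0,0,0⟩),
  (2, 57, ⟨2,0,0,0,0,0,0,0⟩),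
  (1, 59, ⟨2,0,0,0,0,0,0,0⟩),
  (2, 61, ⟨2,0,0,0,0,0,0,0⟩),
  (2, 62, ⟨2,0,0,0,0,0,0,0⟩),
  (1, 63, ⟨2,0,0,0,0,0,0,0⟩),
  (3, 63, ⟨1,-1,0,-1,0,0,1,0⟩),
  (1, 64, ⟨2,0,0,0,0,0,0,0⟩),
  (3, 64, ⟨0,1,0,0,-1,1,1,0⟩),
  (3, 65, ⟨0,0,0,-1,1,0,-1,1⟩),
  (0, 66, ⟨2,0,0,0,0,0,0,0⟩),
  (1, 66, ⟨2,0,0,0,0,0,0,0⟩),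
  (2, 66, ⟨0,0,0,0,0,0,2,0⟩),
  (0, 67, ⟨2,0,0,0,0,0,0,0⟩),
  (1, 68, ⟨2,0,0,0,0,0,0,0⟩),
  (2, 68, ⟨2,0,0,0,0,0,0,0⟩),
  (0, 69, ⟨2,0,0,0,0,0,0,0⟩),
  (3, 69, ⟨0,0,1,-1,0,-1,-1,0⟩),
  (1, 70, ⟨-2,0,0,0,0,0,0,0⟩),
  (3, 70, ⟨0,0,-1,0,-1,1,0,1⟩),
  (0, 71, ⟨2,0,0,0,0,0,0,0⟩),
  (3, 71, ⟨1,0,0,0,0,1,1,-1⟩),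
  (1, 72, ⟨2,0,0,0,0,0,0,0⟩),
  (3, 73, ⟨0,0,-1,0,-1,1,0,1⟩),
  (3, 74, ⟨0,1,0,0,1,-1,-1,0⟩),
  (0, 75, ⟨2,0,0,0,0,0,0,0⟩),
  (2, 75, ⟨0,0,2,0,0,0,0,0⟩),
  (0, 76, ⟨-2,0,0,0,0,0,0,0⟩),
  (1, 76, ⟨2,0,0,0,0,0,0,0⟩),
  (2, 76, ⟨2,0,0,0,0,0,0,0⟩),
  (1, 77, ⟨2,0,0,0,0,0,0,0⟩),
  (1, 78, ⟨2,0,0,0,0,0,0,0⟩),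
  (2, 78, ⟨2,0,0,0,0,0,0,0⟩),
  (0, 79, ⟨2,0,0,0,0,0,0,0⟩),
  (2, 79, ⟨2,0,0,0,0,0,0,0⟩),
  (3, 79, ⟨1,0,0,1,1,-1,0,0⟩),
  (1, 80, ⟨2,0,0,0,0,0,0,0⟩),
  (2, 81, ⟨2,0,0,0,0,0,0,0⟩),
  (3, 81, ⟨0,1,0,0,1,-1,-1,0⟩),
  (3, 82, ⟨1,0,1,0,-1,0,1,0⟩),
  (1, 83, ⟨2,0,0,0,0,0,0,0⟩),
  (3, 83, ⟨1,0,-1,1,0,0,0,-1⟩),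
  (3, 84, ⟨1,-1,1,0,0,-1,0,0⟩),
  (0, 85, ⟨-2,0,0,0,0,0,0,0⟩),
  (1, 85, ⟨0,0,-2,0,0,0,0,0⟩),
  (2, 85, ⟨2,0,0,0,0,0,0,0⟩),
  (3, 86, ⟨-1,0,1,0,-1,0,1,0⟩),
  (2, 87, ⟨2,0,0,0,0,0,0,0⟩),
  (3, 88, ⟨1,0,0,1,-1,1,0,0⟩),
  (0, 89, ⟨-2,0,0,0,0,0,0,0⟩),
  (2, 89, ⟨2,0,0,0,0,0,0,0⟩),
  (0, 91, ⟨2,0,0,0,0,0,0,0⟩),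
  (1, 91, ⟨2,0,0,0,0,0,0,0⟩),
  (2, 91, ⟨2,0,0,0,0,0,0,0⟩),
  (2, 93, ⟨2,0,0,0,0,0,0,0⟩),
  (0, 94, ⟨2,0,0,0,0,0,0,0⟩),
  (2, 94, ⟨2,0,0,0,0,0,0,0⟩),
  (1, 95, ⟨2,0,0,0,0,0,0,0⟩),
  (3, 95, ⟨0,0,-1,0,1,-1,0,-1⟩),
  (1, 96, ⟨2,0,0,0,0,0,0,0⟩),
  (2, 96, ⟨2,0,0,0,0,0,0,0⟩),
  (3, 97, ⟨0,0,1,0,1,-1,0,-1⟩),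
  (3, 98, ⟨0,0,-1,1,0,1,-1,0⟩),
  (3, 99, ⟨-1,0,0,1,1,-1,0,0⟩),
  (2, 101, ⟨2,0,0,0,0,0,0,0⟩),
  (3, 101, ⟨0,0,-1,1,0,1,1,0⟩),
  (0, 103, ⟨2,0,0,0,0,0,0,0⟩),
  (2, 103, ⟨0,0,0,0,0,0,2,0⟩),
  (2, 105, ⟨2,0,0,0,0,0,0,0⟩),
  (3, 109, ⟨-1,0,-1,0,1,0,1,0⟩),
  (1, 111, ⟨0,0,0,0,0,0,-2,0⟩),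
  (2, 111, ⟨2,0,0,0,0,0,0,0⟩),
  (0, 113, ⟨2,0,0,0,0,0,0,0⟩),
  (1, 113, ⟨2,0,0,0,0,0,0,0⟩),
  (1, 115, ⟨2,0,0,0,0,0,0,0⟩),
  (2, 115, ⟨0,0,0,0,0,0,2,0⟩),
  (0, 116, ⟨-2,0,0,0,0,0,0,0⟩),
  (2, 116, ⟨2,0,0,0,0,0,0,0⟩),
  (3, 116, ⟨0,0,-1,0,-1,1,0,1⟩),
  (1, 117, ⟨2,0,0,0,0,0,0,0⟩),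
  (0, 119, ⟨2,0,0,0,0,0,0,0⟩),
  (3, 119, ⟨1,0,0,1,1,-1,0,0⟩),
  (3, 121, ⟨0,0,-1,1,0,1,-1,0⟩),
  (0, 123, ⟨-2,0,0,0,0,0,0,0⟩),
  (3, 123, ⟨1,0,0,0,0,1,1,-1⟩),
  (1, 124, ⟨2,0,0,0,0,0,0,0⟩),
  (1, 126, ⟨0,0,0,0,0,0,2,0⟩),
  (0, 128, ⟨2,0,0,0,0,0,0,0⟩),
  (1, 128, ⟨2,0,0,0,0,0,0,0⟩),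
  (1, 130, ⟨2,0,0,0,0,0,0,0⟩),
  (2, 130, ⟨0,0,2,0,0,0,0,0⟩),
  (1, 131, ⟨2,0,0,0,0,0,0,0⟩),
  (3, 131, ⟨0,1,1,0,0,0,-1,1⟩),
  (1, 132, ⟨2,0,0,0,0,0,0,0⟩),
  (0, 133, ⟨2,0,0,0,0,0,0,0⟩),
  (2, 133, ⟨2,0,0,0,0,0,0,0⟩),
  (3, 133, ⟨1,0,0,0,0,-1,-1,1⟩),
  (3, 134, ⟨1,0,-1,0,-1,0,1,0⟩),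
  (3, 135, ⟨1,0,0,0,0,1,-1,1⟩),
  (0, 136, ⟨2,0,0,0,0,0,0,0⟩),
  (3, 136, ⟨0,0,1,-1,0,-1,-1,0⟩),
  (3, 137, ⟨1,0,-1,0,1,0,1,0⟩),
  (2, 138, ⟨2,0,0,0,0,0,0,0⟩),
  (3, 138, ⟨0,1,1,0,0,0,-1,1⟩),
  (3, 139, ⟨0,0,-1,0,1,-1,0,-1⟩),
  (2, 140, ⟨2,0,0,0,0,0,0,0⟩),
  (3, 141, ⟨0,0,1,0,-1,1,0,1⟩),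
  (3, 142, ⟨0,0,-1,0,1,-1,0,1⟩),
  (0, 143, ⟨-2,0,0,0,0,0,0,0⟩),
  (2, 143, ⟨2,0,0,0,0,0,0,0⟩),
  (1, 144, ⟨2,0,0,0,0,0,0,0⟩),
  (3, 145, ⟨0,1,0,0,1,-1,-1,0⟩),
  (1, 146, ⟨0,0,0,0,0,0,2,0⟩),
  (0, 149, ⟨-2,0,0,0,0,0,0,0⟩),
  (2, 149, ⟨2,0,0,0,0,0,0,0⟩),
  (3, 149, ⟨1,-1,0,0,-1,0,0,1⟩),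
  (1, 150, ⟨2,0,0,0,0,0,0,0⟩),
  (3, 152, ⟨0,0,-1,1,0,-1,1,0⟩),
  (0, 153, ⟨2,0,0,0,0,0,0,0⟩),
  (2, 153, ⟨0,0,0,0,0,0,-2,0⟩),
  (3, 155, ⟨1,-1,-1,0,0,1,0,0⟩),
  (0, 157, ⟨2,0,0,0,0,0,0,0⟩),
  (2, 157, ⟨2,0,0,0,0,0,0,0⟩),
  (1, 158, ⟨2,0,0,0,0,0,0,0⟩),
  (1, 159, ⟨2,0,0,0,0,0,0,0⟩),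
  (3, 159, ⟨1,0,0,0,0,-1,-1,1⟩),
  (2, 160, ⟨2,0,0,0,0,0,0,0⟩),
  (0, 162, ⟨-2,0,0,0,0,0,0,0⟩),
  (3, 164, ⟨1,0,0,0,0,-1,-1,1⟩),
  (1, 165, ⟨-2,0,0,0,0,0,0,0⟩),
  (3, 165, ⟨0,0,-1,1,0,1,1,0⟩),
  (0, 167, ⟨2,0,0,0,0,0,0,0⟩),
  (1, 167, ⟨2,0,0,0,0,0,0,0⟩),
  (0, 168, ⟨-2,0,0,0,0,0,0,0⟩),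
  (3, 169, ⟨1,-1,1,0,0,-1,0,0⟩),
  (0, 170, ⟨2,0,0,0,0,0,0,0⟩),
  (1, 171, ⟨2,0,0,0,0,0,0,0⟩),
  (2, 171, ⟨0,0,0,0,0,0,2,0⟩),
  (1, 172, ⟨2,0,0,0,0,0,0,0⟩),
  (0, 175, ⟨-2,0,0,0,0,0,0,0⟩),
  (3, 175, ⟨1,-1,1,0,0,1,0,0⟩),
  (0, 178, ⟨-2,0,0,0,0,0,0,0⟩),
  (2, 178, ⟨2,0,0,0,0,0,0,0⟩),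
  (2, 179, ⟨2,0,0,0,0,0,0,0⟩),
  (1, 180, ⟨2,0,0,0,0,0,0,0⟩),
  (1, 181, ⟨2,0,0,0,0,0,0,0⟩),
  (2, 181, ⟨2,0,0,0,0,0,0,0⟩),
  (3, 181, ⟨0,1,-1,1,-1,0,0,0⟩),
  (1, 182, ⟨0,0,0,0,0,0,2,0⟩),
  (3, 182, ⟨-1,0,0,-1,-1,1,0,0⟩),
  (0, 184, ⟨-2,0,0,0,0,0,0,0⟩),
  (3, 184, ⟨1,0,0,0,0,1,1,-1⟩),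
  (1, 186, ⟨2,0,0,0,0,0,0,0⟩),
  (2, 186, ⟨2,0,0,0,0,0,0,0⟩),
  (1, 189, ⟨0,0,2,0,0,0,0,0⟩),
  (3, 190, ⟨0,0,0,0,2,0,0,0⟩),
  (2, 194, ⟨2,0,0,0,0,0,0,0⟩),
  (3, 194, ⟨0,1,-1,0,0,0,-1,1⟩),
  (1, 195, ⟨2,0,0,0,0,0,0,0⟩),
  (1, 197, ⟨2,0,0,0,0,0,0,0⟩),
  (2, 197, ⟨0,0,1,0,1,-1,0,1⟩),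
  (3, 199, ⟨1,-1,0,1,0,0,-1,0⟩),
  (3, 200, ⟨0,1,-1,0,0,0,-1,1⟩),
  (1, 202, ⟨2,0,0,0,0,0,0,0⟩),
  (2, 203, ⟨0,0,-2,0,0,0,0,0⟩),
  (2, 208, ⟨2,0,0,0,0,0,0,0⟩),
  (2, 209, ⟨2,0,0,0,0,0,0,0⟩),
  (2, 216, ⟨2,0,0,0,0,0,0,0⟩),
  (1, 219, ⟨2,0,0,0,0,0,0,0⟩),
  (3, 219, ⟨0,0,-1,1,0,1,1,0⟩),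
  (3, 224, ⟨0,0,2,0,0,0,0,0⟩),
  (2, 225, ⟨0,0,-2,0,0,0,0,0⟩),
  (3, 227, ⟨1,-1,0,1,0,0,-1,0⟩),
  (3, 231, ⟨0,1,1,0,0,0,-1,1⟩),
  (2, 233, ⟨2,0,0,0,0,0,0,0⟩),
  (1, 236, ⟨2,0,0,0,0,0,0,0⟩),
  (0, 237, ⟨-2,0,0,0,0,0,0,0⟩),
  (2, 237, ⟨2,0,0,0,0,0,0,0⟩),
  (3, 241, ⟨1,-1,0,1,0,0,1,0⟩),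
  (3, 242, ⟨-1,1,0,-1,0,0,1,0⟩),
  (2, 245, ⟨0,0,0,0,0,0,-2,0⟩),
  (2, 246, ⟨2,0,0,0,0,0,0,0⟩),
  (3, 246, ⟨1,-1,0,0,1,0,0,1⟩),
  (1, 248, ⟨0,0,0,0,0,0,2,0⟩),
  (0, 249, ⟨-2,0,0,0,0,0,0,0⟩),
  (2, 250, ⟨0,0,0,0,0,0,-2,0⟩),
  (1, 251, ⟨0,0,0,0,0,0,-2,0⟩),
  (2, 252, ⟨2,0,0,0,0,0,0,0⟩),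
  (0, 253, ⟨-2,0,0,0,0,0,0,0⟩),
  (1, 254, ⟨2,0,0,0,0,0,0,0⟩),
  (2, 254, ⟨0,0,0,0,2,0,0,0⟩),
  (1, 256, ⟨2,0,0,0,0,0,0,0⟩),
  (2, 257, ⟨0,0,-2,0,0,0,0,0⟩),
  (1, 258, ⟨0,0,-2,0,0,0,0,0⟩),
  (3, 259, ⟨0,0,0,0,0,0,2,0⟩),
  (2, 260, ⟨2,0,0,0,0,0,0,0⟩),
  (3, 264, ⟨0,-1,-1,0,0,0,-1,1⟩),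
  (2, 266, ⟨2,0,0,0,0,0,0,0⟩),
  (3, 269, ⟨0,0,0,0,2,0,0,0⟩),
  (1, 270, ⟨2,0,0,0,0,0,0,0⟩),
  (3, 271, ⟨0,0,-1,0,-1,1,0,1⟩),
  (1, 274, ⟨2,0,0,0,0,0,0,0⟩),
  (2, 275, ⟨2,0,0,0,0,0,0,0⟩),
  (3, 280, ⟨1,0,0,-1,-1,1,0,0⟩),
  (2, 283, ⟨2,0,0,0,0,0,0,0⟩),
  (1, 284, ⟨2,0,0,0,0,0,0,0⟩),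
  (2, 284, ⟨0,0,1,-1,0,1,1,0⟩),
  (3, 286, ⟨-1,0,0,0,0,1,1,-1⟩),
  (3, 293, ⟨0,0,2,0,0,0,0,0⟩),
  (3, 309, ⟨0,-1,1,-1,1,0,0,0⟩)]
def r0 : V := (sm 2 one, zero, zero)

theorem hen : en (fun x => decide (x.cond → (x = zero ∨ (x.nA = 4 ∧ x.nB = 0 ∧ x ∈ UL) ∨ (12 ≤ T x)) ∧
    (D ((one.sub x).raw h.cj) → x ∈ C1))) = true := by decide +kernel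
theorem tri {x : Q} (h : x.cond) : x = zero ∨ (x.nA = 4 ∧ x.nB = 0 ∧ x ∈ UL) ∨ (12 ≤ T x) := by
  by_cases hx : T x ≤ 16
  · exact (of_decide_eq_true (en_spec hen hx) h).1
  · exact .inr (.inr (by omega))
theorem hA : ∀ x ∈ C1, ∀ z ∈ C1, x.nA + z.nA = 12 → x.nB + z.nB = 0 → inL (one, x, z) → (one, x, z) ∈ TL := by decide +kernel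
theorem hB : ∀ b ∈ UL, hk b h ∧ (inL (h, hm b h, zero) → (h, hm b h, zero) ∈ TL) := by decide +kernel
theorem hS : ∀ s ∈ B, inL s ∧ s.1.nA + s.2.1.nA + s.2.2.nA = 16 ∧ s.1.nB + s.2.1.nB + s.2.2.nB = 0 := by decide +kernel
def stOk (j : Nat) (s : Nat × Nat × Q) : Prop := s.2.1 ≤ j ∧ B.getD s.1 r0 ∈ B ∧ rk (B.getD s.1 r0) (TL.getD s.2.1 r0) ∧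
  uk s.2.2 (rc (B.getD s.1 r0) (TL.getD s.2.1 r0)) ∧ s.2.2.cond ∧ s.2.2.nA = 4 ∧ s.2.2.nB = 0 ∧
  TL.getD (j + 1) r0 = um s.2.2 (rc (B.getD s.1 r0) (TL.getD s.2.1 r0))
instance (j : Nat) (s : Nat × Nat × Q) : Decidable (stOk j s) := by unfold stOk; infer_instance
theorem hT : ∀ j < 314, stOk j (St.getD j (0, 0, zero)) := by decide +kernel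

end CfsgH7.Ico
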