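import Cfsg.Agent.H7.Ico.En
import Cfsg.Agent.H7.Mx6
import Cfsg.Agent.H7.Li.G24x

/-! The reflection group modulo five. -/

set_option autoImplicit false
set_option maxRecDepth 100000

namespace CfsgH7.Ico

open Cfsg.Spor Quaternion Q Matrix Subgroup

def Lin (f : Equiv.Perm icoLeech) : Prop :=
  ∃ L : W →+ W, (∀ x, qip (L x) (L x) = qip x x) ∧ ∀ x : icoLeech, (f x : W) = L x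
theorem lin {f : Equiv.Perm icoLeech} (hf : f ∈ twoJ2) : Lin f := by
  have key : ∀ {r : W} (h : S r), Lin (rp h) := fun {r} h =>
    ⟨AddMonoidHom.mk' (qrefl r) (refl_add r), fun x => refl_ip h.2 x x, fun _ => rfl⟩
  rw [K_eq] at hf
  induction hf using closure_induction'' with
  | mem x hx => obtain ⟨s, h, rfl⟩ := hx; exact key _
  | inv_mem x hx => obtain ⟨s, h, rfl⟩ := hx; exact key (SB h)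
  | one => exact ⟨AddMonoidHom.id _, fun _ => rfl, fun _ => rfl⟩
  | mul f g _ _ hf hg =>
    obtain ⟨L, h1, h2⟩ := hf
    obtain ⟨L', h3, h4⟩ := hg
    exact ⟨L.comp L', fun x => (h1 _).trans (h3 x), fun x => (h2 _).trans (congrArg L (h4 x))⟩

abbrev C : Type := Fin 24 → Int
def vc (c : C) : V := (⟨c 0, c 1, c 2, c 3, c 4, c 5, c 6, c 7⟩, ⟨c 8, c 9, c 10, c 11, c 12, c 13, c 14, c 15⟩, ⟨c 16, c 17, c 18, c 19, c 20, c 21, c 22, c 23⟩)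
def qc (x : Q) (k : Nat) : Int := match k with
  | 0 => x.a0 | 1 => x.b0 | 2 => x.a1 | 3 => x.b1 | 4 => x.a2 | 5 => x.b2 | 6 => x.a3 | _ => x.b3
def co (v : V) (i : Fin 24) : Int := qc (if i.val < 8 then v.1 else if i.val < 16 then v.2.1 else v.2.2) (i.val % 8)
theorem vc_co (v : V) : vc (co v) = v := rfl
noncomputable def EF : C →+ W := AddMonoidHom.mk' (fun c => E (vc c)) fun c d => funext fun t => by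
  fin_cases t
  exacts [e_add (vc c).1 (vc d).1, e_add (vc c).2.1 (vc d).2.1, e_add (vc c).2.2 (vc d).2.2]
theorem EF_inj : Function.Injective EF := fun c d h => by
  have := E_inj h
  simp only [vc, Prod.mk.injEq, Q.mk.injEq] at this
  funext i; fin_cases i <;> simp [this]
noncomputable def cd (r : icoLeech) : C := co (ofL r.2).choose
theorem EF_cd (r : icoLeech) : EF (cd r) = r := (ofL r.2).choose_spec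
def bv (j : Fin 24) : C := fun i => if i = j then 4 else 0
theorem hbv : ∀ j, inL (vc (bv j)) := by decide +kernel
noncomputable def b0 (j : Fin 24) : icoLeech := ⟨EF (bv j), (mem_iff _).2 (hbv j)⟩
theorem cd_b0 (j : Fin 24) : cd (b0 j) = bv j := EF_inj (EF_cd _)
theorem four_eq (c : C) : (4 : Int) • c = ∑ j, c j • bv j := by
  funext i; simp [bv, Finset.sum_apply, mul_comm]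
theorem Lin.cd {f : Equiv.Perm icoLeech} (h : Lin f) (x : icoLeech) : (4 : Int) • cd (f x) = ∑ j, cd x j • cd (f (b0 j)) := by
  obtain ⟨L, -, h⟩ := h
  apply EF_inj
  rw [map_zsmul, EF_cd, h, ← EF_cd x, ← map_zsmul, ← map_zsmul, four_eq, map_sum, map_sum, map_sum]
  exact Finset.sum_congr rfl fun j _ => by rw [map_zsmul, map_zsmul, map_zsmul, EF_cd, h]; rfl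
noncomputable def ρ0 (f : Equiv.Perm icoLeech) : Matrix (Fin 24) (Fin 24) (ZMod 5) :=
  Matrix.of fun i j => -((cd (f (b0 j)) i : Int) : ZMod 5)
theorem Lin.mv {f : Equiv.Perm icoLeech} (h : Lin f) (x : icoLeech) (i : Fin 24) :
    ((Ico.cd (f x) i : Int) : ZMod 5) = ∑ j, ρ0 f i j * (Ico.cd x j : Int) := by
  have := congrArg (Int.cast : Int → ZMod 5) (congrFun (h.cd x) i)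
  simp only [Pi.smul_apply, smul_eq_mul, Finset.sum_apply, Int.cast_sum, Int.cast_mul] at this
  rw [show ((4 : Int) : ZMod 5) = -1 by decide, neg_one_mul, neg_eq_iff_eq_neg, ← Finset.sum_neg_distrib] at this
  rw [this]
  exact Finset.sum_congr rfl fun j _ => by simp [ρ0, mul_comm]
noncomputable def ρ : twoJ2 →* Matrix (Fin 24) (Fin 24) (ZMod 5) where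
  toFun f := ρ0 f
  map_one' := by
    ext i j
    show -((cd (b0 j) i : Int) : ZMod 5) = _
    rw [cd_b0, bv, Matrix.one_apply]; split_ifs <;> decide
  map_mul' f g := by
    ext i j
    show -((cd (f.1 (g.1 (b0 j))) i : Int) : ZMod 5) = _
    rw [(lin f.2).mv, Matrix.mul_apply, ← Finset.sum_neg_distrib]
    exact Finset.sum_congr rfl fun k _ => by simp [ρ0]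

def T3 (c : C) : Int := T (vc c).1 + T (vc c).2.1 + T (vc c).2.2
theorem T3_nn (c : C) : 0 ≤ T3 c := by unfold T3; linarith [T_nn (vc c).1, T_nn (vc c).2.1, T_nn (vc c).2.2]
theorem T3_par (c d : C) : T3 (c - d) + T3 (c + d) = 2 * T3 c + 2 * T3 d := by
  simp only [T3, T, nA, nB, p, q, vc, Pi.sub_apply, Pi.add_apply]; ring
theorem T3_five (c : C) : T3 ((5 : Int) • c) = 25 * T3 c := by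
  simp only [T3, T, nA, nB, p, q, vc, Pi.smul_apply, smul_eq_mul]; ring
theorem T3_eq {c d : C} (h : qip (EF c) (EF c) = qip (EF d) (EF d)) : T3 c = T3 d := by
  have h1 := Quaternion.coe_injective ((qip_E (vc c)).symm.trans (h.trans (qip_E (vc d))))
  have := ind (a := (vc c).1.nA + (vc c).2.1.nA + (vc c).2.2.nA - ((vc d).1.nA + (vc d).2.1.nA + (vc d).2.2.nA))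
    (b := (vc c).1.nB + (vc c).2.1.nB + (vc c).2.2.nB - ((vc d).1.nB + (vc d).2.1.nB + (vc d).2.2.nB))
    (by push_cast at h1 ⊢; linear_combination 4 * h1)
  unfold T3 T; omega
def LL : AddSubgroup W where
  carrier := icoLeech
  add_mem' := L_add
  zero_mem' := by simpa using L_sub (b0 0).2 (b0 0).2
  neg_mem' h := by simpa using L_sub (L_sub h h) h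
theorem ρ_inj : Function.Injective ρ := (injective_iff_map_eq_one ρ).2 fun f hf => by
  have h1 : ∀ j, cd (f.1 (b0 j)) = bv j := fun j => by
    obtain ⟨L, h2, h3⟩ := lin f.2
    have h4 : T3 (cd (f.1 (b0 j))) = T3 (bv j) := T3_eq (by rw [EF_cd, h3, h2]; rfl)
    have h5 : ∀ i, (5 : Int) ∣ cd (f.1 (b0 j)) i - bv j i := fun i => by
      have := congrFun (congrFun hf i) j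
      rw [← map_one ρ] at this
      refine (ZMod.intCast_eq_intCast_iff_dvd_sub _ _ 5).1 ?_
      rw [← cd_b0]; exact (neg_injective this).symm
    choose u hu using h5
    have h6 : cd (f.1 (b0 j)) - bv j = (5 : Int) • u := funext hu
    have h7 : EF u ∈ LL := by
      rw [show u = (5 : Int) • u - (4 : Int) • u by module, ← h6, four_eq, map_sub, map_sub, map_sum, EF_cd]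
      exact sub_mem (sub_mem (f.1 (b0 j)).2 (b0 j).2) (sum_mem fun k _ => by rw [map_zsmul]; exact zsmul_mem (b0 k).2 _)
    have h8 := T3_par (cd (f.1 (b0 j))) (bv j)
    have h9 := T3_nn (cd (f.1 (b0 j)) + bv j)
    have h10 := (show ∀ j, T3 (bv j) ≤ 48 by decide +kernel) j
    rw [h6, T3_five, h4] at h8
    obtain ⟨c1, c2, c3, -⟩ := (mem_iff _).1 h7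
    have n1 := T_nn (vc u).1; have n2 := T_nn (vc u).2.1; have n3 := T_nn (vc u).2.2
    have z : ∀ x : Q, x.cond → T x < 8 → x = zero := fun x hx h =>
      ((tri hx).resolve_right fun h' => by unfold T at h h'; omega)
    unfold T3 at h8 h9 h10
    have : u = 0 := EF_inj (congrArg E (Prod.ext (z _ c1 (by omega)) (Prod.ext (z _ c2 (by omega)) (z _ c3 (by omega)))))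
    rw [this, smul_zero] at h6
    exact sub_eq_zero.1 h6
  refine Subtype.ext (Equiv.ext fun x => Subtype.ext ?_)
  have := (lin f.2).cd x
  simp only [h1, ← four_eq] at this
  rw [← EF_cd, smul_right_injective _ (by norm_num) this, EF_cd]; rfl

def Ms : List (List (List Nat)) := [[[4,0,1,0,1,0,4,0,4,0,4,0,1,0,1,0,0,4,0,1,0,4,3,1],[0,4,0,1,0,1,0,4,0,4,0,4,0,1,0,1,4,4,1,1,4,4,1,4],[4,0,4,0,1,0,1,0,1,0,4,0,4,0,1,0,0,4,0,4,2,4,0,4],[0,4,0,4,0,1,0,1,0,1,0,4,0,4,0,1,4,4,4,4,4,1,4,4],[4,0,4,0,4,0,4,0,4,0,1,0,4,0,1,0,0,1,3,1,0,4,0,4],[0,4,0,4,0,4,0,4,0,4,0,1,0,4,0,1,1,1,1,4,4,4,4,4],[1,0,4,0,1,0,4,0,4,0,4,0,4,0,4,0,2,4,0,1,0,1,0,4],[0,1,0,4,0,1,0,4,0,4,0,4,0,4,0,4,4,1,1,1,1,1,4,4],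[1,4,1,1,4,1,1,4,4,1,4,1,4,4,1,4,0,0,0,0,0,0,0,0],[4,0,1,2,1,0,4,0,1,0,1,0,4,3,4,0,0,0,0,0,0,0,0,0],[4,4,1,4,4,1,4,1,1,4,4,1,4,1,4,4,0,0,0,0,0,0,0,0],[4,3,4,0,1,0,1,0,4,0,1,0,1,0,4,3,0,0,0,0,0,0,0,0],[1,4,1,4,1,4,4,4,1,1,1,4,4,1,1,4,0,0,0,0,0,0,0,0],[4,0,4,0,4,0,4,3,1,2,4,0,1,0,4,0,0,0,0,0,0,0,0,0],[4,1,1,4,1,1,1,4,4,1,1,1,4,1,4,1,0,0,0,0,0,0,0,0],[1,0,4,0,1,2,4,0,1,0,1,2,1,0,1,0,0,0,0,0,0,0,0,0],[1,0,4,0,4,0,1,0,1,0,1,0,4,0,4,0,0,4,0,1,0,4,3,1],[0,1,0,4,0,4,0,1,0,1,0,1,0,4,0,4,4,4,1,1,4,4,1,4],[1,0,1,0,4,0,4,0,4,0,1,0,1,0,4,0,0,4,0,4,2,4,0,4],[0,1,0,1,0,4,0,4,0,4,0,1,0,1,0,4,4,4,4,4,4,1,4,4],[1,0,1,0,1,0,1,0,1,0,4,0,1,0,4,0,0,1,3,1,0,4,0,4],[0,1,0,1,0,1,0,1,0,1,0,4,0,1,0,4,1,1,1,4,4,4,4,4],[4,0,1,0,4,0,1,0,1,0,1,0,1,0,1,0,2,4,0,1,0,1,0,4],[0,4,0,1,0,4,0,1,0,1,0,1,0,1,0,1,4,1,1,1,1,1,4,4]],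
  [[4,0,4,0,4,0,1,0,1,4,4,4,1,4,4,1,1,0,1,0,1,0,4,0],[0,4,0,4,0,4,0,1,4,0,4,3,4,0,1,0,0,1,0,1,0,1,0,4],[1,0,4,0,4,0,4,0,1,1,1,4,1,4,1,4,4,0,1,0,1,0,1,0],[0,1,0,4,0,4,0,4,1,2,4,0,4,0,4,0,0,4,0,1,0,1,0,1],[1,0,1,0,4,0,1,0,4,1,4,1,1,4,1,1,4,0,4,0,1,0,4,0],[0,1,0,1,0,4,0,1,1,0,1,0,4,0,1,2,0,4,0,4,0,1,0,4],[4,0,1,0,4,0,4,0,1,4,4,1,4,4,1,4,1,0,4,0,1,0,1,0],[0,4,0,1,0,4,0,4,4,0,1,0,4,3,4,0,0,1,0,4,0,1,0,1],[4,0,1,0,4,0,4,0,4,1,1,4,1,1,4,1,1,0,4,0,1,0,1,0],[0,4,0,1,0,4,0,4,1,0,4,0,1,2,1,0,0,1,0,4,0,1,0,1],[4,0,4,0,1,0,4,0,4,1,4,1,1,4,1,1,1,0,1,0,4,0,1,0],[0,4,0,4,0,1,0,4,1,0,1,0,4,0,1,2,0,1,0,1,0,4,0,1],[1,0,4,0,4,0,4,0,4,4,4,1,4,1,4,1,4,0,1,0,1,0,1,0],[0,1,0,4,0,4,0,4,4,3,1,0,1,0,1,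0,0,4,0,1,0,1,0,1],[1,0,1,0,1,0,4,0,1,4,4,4,1,4,4,1,4,0,4,0,4,0,1,0],[0,1,0,1,0,1,0,4,4,0,4,3,4,0,1,0,0,4,0,4,0,4,0,1],[0,4,0,4,0,1,2,4,0,0,0,0,0,0,0,0,0,4,0,4,0,1,2,4],[4,4,4,4,1,1,4,1,0,0,0,0,0,0,0,0,4,4,4,4,1,1,4,1],[0,1,0,4,3,1,0,1,0,0,0,0,0,0,0,0,0,1,0,4,3,1,0,1],[1,1,4,4,1,4,1,1,0,0,0,0,0,0,0,0,1,1,4,4,1,4,1,1],[0,4,2,4,0,4,0,1,0,0,0,0,0,0,0,0,0,4,2,4,0,4,0,1],[4,4,4,1,4,4,1,1,0,0,0,0,0,0,0,0,4,4,4,1,4,4,1,1],[3,1,0,4,0,4,0,4,0,0,0,0,0,0,0,0,3,1,0,4,0,4,0,4],[1,4,4,4,4,4,4,4,0,0,0,0,0,0,0,0,1,4,4,4,4,4,4,4]],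
  [[4,0,1,0,4,0,4,2,0,0,0,0,0,0,2,0,3,0,0,0,0,0,0,0],[0,4,0,1,0,4,2,1,0,0,0,0,0,0,0,2,0,3,0,0,0,0,0,0],[4,0,4,0,1,3,4,0,0,0,0,0,3,0,0,0,0,0,3,0,0,0,0,0],[0,4,0,4,3,4,0,4,0,0,0,0,0,3,0,0,0,0,0,3,0,0,0,0],[1,0,4,2,4,0,4,0,0,0,2,0,0,0,0,0,0,0,0,0,3,0,0,0],[0,1,2,1,0,4,0,4,0,0,0,2,0,0,0,0,0,0,0,0,0,3,0,0],[1,3,1,0,1,0,4,0,3,0,0,0,0,0,0,0,0,0,0,0,0,0,3,0],[3,4,0,1,0,1,0,4,0,3,0,0,0,0,0,0,0,0,0,0,0,0,0,3],[4,2,4,0,4,0,1,0,3,0,0,0,0,0,0,0,0,0,0,0,0,0,3,0],[2,1,0,4,0,4,0,1,0,3,0,0,0,0,0,0,0,0,0,0,0,0,0,3],[1,0,4,2,4,0,4,0,0,0,3,0,0,0,0,0,0,0,0,0,2,0,0,0],[0,1,2,1,0,4,0,4,0,0,0,3,0,0,0,0,0,0,0,0,0,2,0,0],[1,0,1,0,4,2,1,0,0,0,0,0,3,0,0,0,0,0,3,0,0,0,0,0],[0,1,0,1,2,1,0,1,0,0,0,0,0,3,0,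0,0,0,0,3,0,0,0,0],[4,0,1,0,4,0,4,2,0,0,0,0,0,0,3,0,2,0,0,0,0,0,0,0],[0,4,0,1,0,4,2,1,0,0,0,0,0,0,0,3,0,2,0,0,0,0,0,0],[0,0,0,0,0,0,0,0,4,2,1,0,1,0,4,0,4,0,4,0,1,0,1,3],[0,0,0,0,0,0,0,0,2,1,0,1,0,1,0,4,0,4,0,4,0,1,3,4],[0,0,0,0,0,0,0,0,4,0,4,2,1,0,1,0,1,0,4,0,4,2,1,0],[0,0,0,0,0,0,0,0,0,4,2,1,0,1,0,1,0,1,0,4,2,1,0,1],[0,0,0,0,0,0,0,0,4,0,4,0,4,2,4,0,4,0,1,3,4,0,1,0],[0,0,0,0,0,0,0,0,0,4,0,4,2,1,0,4,0,4,3,4,0,4,0,1],[0,0,0,0,0,0,0,0,1,0,4,0,1,0,4,2,4,2,4,0,4,0,4,0],[0,0,0,0,0,0,0,0,0,1,0,4,0,1,2,1,2,1,0,4,0,4,0,4]],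
  [[4,0,4,0,1,0,1,3,4,2,1,0,1,0,4,0,0,0,0,0,0,0,0,0],[0,4,0,4,0,1,3,4,2,1,0,1,0,1,0,4,0,0,0,0,0,0,0,0],[1,0,4,0,4,2,1,0,4,0,4,2,1,0,1,0,0,0,0,0,0,0,0,0],[0,1,0,4,2,1,0,1,0,4,2,1,0,1,0,1,0,0,0,0,0,0,0,0],[4,0,1,3,4,0,1,0,4,0,4,0,4,2,4,0,0,0,0,0,0,0,0,0],[0,4,3,4,0,4,0,1,0,4,0,4,2,1,0,4,0,0,0,0,0,0,0,0],[4,2,4,0,4,0,4,0,1,0,4,0,1,0,4,2,0,0,0,0,0,0,0,0],[2,1,0,4,0,4,0,4,0,1,0,4,0,1,2,1,0,0,0,0,0,0,0,0],[0,0,0,0,0,0,3,0,3,0,0,0,0,0,0,0,4,2,4,0,4,0,1,0],[0,0,0,0,0,0,0,3,0,3,0,0,0,0,0,0,2,1,0,4,0,4,0,1],[0,0,0,0,2,0,0,0,0,0,3,0,0,0,0,0,1,0,4,2,4,0,4,0],[0,0,0,0,0,2,0,0,0,0,0,3,0,0,0,0,0,1,2,1,0,4,0,4],[0,0,3,0,0,0,0,0,0,0,0,0,3,0,0,0,1,0,1,0,4,2,1,0],[0,0,0,3,0,0,0,0,0,0,0,0,0,3,0,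0,0,1,0,1,2,1,0,1],[2,0,0,0,0,0,0,0,0,0,0,0,0,0,3,0,4,0,1,0,4,0,4,2],[0,2,0,0,0,0,0,0,0,0,0,0,0,0,0,3,0,4,0,1,0,4,2,1],[3,0,0,0,0,0,0,0,0,0,0,0,0,0,2,0,4,0,1,0,4,0,4,2],[0,3,0,0,0,0,0,0,0,0,0,0,0,0,0,2,0,4,0,1,0,4,2,1],[0,0,3,0,0,0,0,0,0,0,0,0,3,0,0,0,4,0,4,0,1,3,4,0],[0,0,0,3,0,0,0,0,0,0,0,0,0,3,0,0,0,4,0,4,3,4,0,4],[0,0,0,0,3,0,0,0,0,0,2,0,0,0,0,0,1,0,4,2,4,0,4,0],[0,0,0,0,0,3,0,0,0,0,0,2,0,0,0,0,0,1,2,1,0,4,0,4],[0,0,0,0,0,0,3,0,3,0,0,0,0,0,0,0,1,3,1,0,1,0,4,0],[0,0,0,0,0,0,0,3,0,3,0,0,0,0,0,0,3,4,0,1,0,1,0,4]],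
  [[0,0,1,1,2,4,4,0,4,0,0,1,4,1,0,0,0,0,4,1,0,4,4,0],[0,0,1,2,4,1,0,4,0,4,1,1,1,0,0,0,0,0,1,0,4,4,0,4],[4,4,0,0,1,0,2,4,0,4,4,0,0,0,4,1,1,4,0,0,1,0,0,4],[4,3,0,0,0,1,4,1,4,4,0,4,0,0,1,0,4,0,0,0,0,1,4,4],[3,1,4,0,0,0,4,4,1,4,0,0,4,0,0,4,0,1,4,0,0,0,1,4],[1,4,0,4,0,0,4,3,4,0,0,0,0,4,4,4,1,1,0,4,0,0,4,0],[1,0,3,1,1,1,0,0,0,0,1,4,0,1,4,0,1,0,0,1,4,1,0,0],[0,1,1,4,1,2,0,0,0,0,4,0,1,1,0,4,0,1,1,1,1,0,0,0],[1,0,0,1,4,1,0,0,0,0,4,1,0,4,1,0,1,0,3,1,1,1,0,0],[0,1,1,1,1,0,0,0,0,0,1,0,4,4,0,1,0,1,1,4,1,2,0,0],[0,4,1,0,0,0,4,1,1,4,0,0,4,0,0,4,2,4,1,0,0,0,1,1],[4,4,0,1,0,0,1,0,4,0,0,0,0,4,4,4,4,1,0,1,0,0,1,2],[1,4,0,0,1,0,0,4,0,1,1,0,0,0,1,4,4,4,0,0,1,0,2,4],[4,0,0,0,0,1,4,4,1,1,0,1,0,0,4,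0,4,3,0,0,0,1,4,1],[0,0,1,4,0,1,1,0,4,0,0,1,4,1,0,0,0,0,4,4,3,1,1,0],[0,0,4,0,1,1,0,1,0,4,1,1,1,0,0,0,0,0,4,3,1,4,0,1],[0,0,4,1,0,4,4,0,4,0,3,1,1,1,0,0,0,0,1,4,0,1,1,0],[0,0,1,0,4,4,0,4,0,4,1,4,1,2,0,0,0,0,4,0,1,1,0,1],[1,4,0,0,1,0,0,4,2,4,4,0,0,0,1,1,4,1,0,0,4,0,0,1],[4,0,0,0,0,1,4,4,4,1,0,4,0,0,1,2,1,0,0,0,0,4,1,1],[0,1,4,0,0,0,1,4,4,4,0,0,4,0,2,4,0,4,1,0,0,0,4,1],[1,1,0,4,0,0,4,0,4,3,0,0,0,4,4,1,4,4,0,1,0,0,1,0],[1,0,0,1,4,1,0,0,0,0,4,4,3,1,4,0,4,0,0,4,1,4,0,0],[0,1,1,1,1,0,0,0,0,0,4,3,1,4,0,4,0,4,4,4,4,0,0,0]],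
  [[0,0,4,4,3,1,1,0,1,0,0,4,1,4,0,0,0,0,1,4,0,1,1,0],[0,0,4,3,1,4,0,1,0,1,4,4,4,0,0,0,0,0,4,0,1,1,0,1],[1,1,0,0,4,0,3,1,0,1,1,0,0,0,1,4,4,1,0,0,4,0,0,1],[1,2,0,0,0,4,1,4,1,1,0,1,0,0,4,0,1,0,0,0,0,4,1,1],[2,4,1,0,0,0,1,1,4,1,0,0,1,0,0,1,0,4,1,0,0,0,4,1],[4,1,0,1,0,0,1,2,1,0,0,0,0,1,1,1,4,4,0,1,0,0,1,0],[4,0,2,4,4,4,0,0,0,0,4,1,0,4,1,0,4,0,0,4,1,4,0,0],[0,4,4,1,4,3,0,0,0,0,1,0,4,4,0,1,0,4,4,4,4,0,0,0],[4,0,0,4,1,4,0,0,0,0,1,4,0,1,4,0,4,0,2,4,4,4,0,0],[0,4,4,4,4,0,0,0,0,0,4,0,1,1,0,4,0,4,4,1,4,3,0,0],[0,1,4,0,0,0,1,4,4,1,0,0,1,0,0,1,3,1,4,0,0,0,4,4],[1,1,0,4,0,0,4,0,1,0,0,0,0,1,1,1,1,4,0,4,0,0,4,3],[4,1,0,0,4,0,0,1,0,4,4,0,0,0,4,1,1,1,0,0,4,0,3,1],[1,0,0,0,0,4,1,1,4,4,0,4,0,0,1,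0,1,2,0,0,0,4,1,4],[0,0,4,1,0,4,4,0,1,0,0,4,1,4,0,0,0,0,1,1,2,4,4,0],[0,0,1,0,4,4,0,4,0,1,4,4,4,0,0,0,0,0,1,2,4,1,0,4],[0,0,1,4,0,1,1,0,1,0,2,4,4,4,0,0,0,0,4,1,0,4,4,0],[0,0,4,0,1,1,0,1,0,1,4,1,4,3,0,0,0,0,1,0,4,4,0,4],[4,1,0,0,4,0,0,1,3,1,1,0,0,0,4,4,1,4,0,0,1,0,0,4],[1,0,0,0,0,4,1,1,1,4,0,1,0,0,4,3,4,0,0,0,0,1,4,4],[0,4,1,0,0,0,4,1,1,1,0,0,1,0,3,1,0,1,4,0,0,0,1,4],[4,4,0,1,0,0,1,0,1,2,0,0,0,1,1,4,1,1,0,4,0,0,4,0],[4,0,0,4,1,4,0,0,0,0,1,1,2,4,1,0,1,0,0,1,4,1,0,0],[0,4,4,4,4,0,0,0,0,0,1,2,4,1,0,1,0,1,1,1,1,0,0,0]],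
  [[4,0,0,0,0,0,0,0,0,0,0,0,0,0,0,0,0,0,0,0,0,0,0,0],[0,4,0,0,0,0,0,0,0,0,0,0,0,0,0,0,0,0,0,0,0,0,0,0],[0,0,4,0,0,0,0,0,0,0,0,0,0,0,0,0,0,0,0,0,0,0,0,0],[0,0,0,4,0,0,0,0,0,0,0,0,0,0,0,0,0,0,0,0,0,0,0,0],[0,0,0,0,4,0,0,0,0,0,0,0,0,0,0,0,0,0,0,0,0,0,0,0],[0,0,0,0,0,4,0,0,0,0,0,0,0,0,0,0,0,0,0,0,0,0,0,0],[0,0,0,0,0,0,4,0,0,0,0,0,0,0,0,0,0,0,0,0,0,0,0,0],[0,0,0,0,0,0,0,4,0,0,0,0,0,0,0,0,0,0,0,0,0,0,0,0],[0,0,0,0,0,0,0,0,4,0,0,0,0,0,0,0,0,0,0,0,0,0,0,0],[0,0,0,0,0,0,0,0,0,4,0,0,0,0,0,0,0,0,0,0,0,0,0,0],[0,0,0,0,0,0,0,0,0,0,4,0,0,0,0,0,0,0,0,0,0,0,0,0],[0,0,0,0,0,0,0,0,0,0,0,4,0,0,0,0,0,0,0,0,0,0,0,0],[0,0,0,0,0,0,0,0,0,0,0,0,4,0,0,0,0,0,0,0,0,0,0,0],[0,0,0,0,0,0,0,0,0,0,0,0,0,4,0,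0,0,0,0,0,0,0,0,0],[0,0,0,0,0,0,0,0,0,0,0,0,0,0,4,0,0,0,0,0,0,0,0,0],[0,0,0,0,0,0,0,0,0,0,0,0,0,0,0,4,0,0,0,0,0,0,0,0],[0,0,0,0,0,0,0,0,0,0,0,0,0,0,0,0,4,0,0,0,0,0,0,0],[0,0,0,0,0,0,0,0,0,0,0,0,0,0,0,0,0,4,0,0,0,0,0,0],[0,0,0,0,0,0,0,0,0,0,0,0,0,0,0,0,0,0,4,0,0,0,0,0],[0,0,0,0,0,0,0,0,0,0,0,0,0,0,0,0,0,0,0,4,0,0,0,0],[0,0,0,0,0,0,0,0,0,0,0,0,0,0,0,0,0,0,0,0,4,0,0,0],[0,0,0,0,0,0,0,0,0,0,0,0,0,0,0,0,0,0,0,0,0,4,0,0],[0,0,0,0,0,0,0,0,0,0,0,0,0,0,0,0,0,0,0,0,0,0,4,0],[0,0,0,0,0,0,0,0,0,0,0,0,0,0,0,0,0,0,0,0,0,0,0,4]],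
  [[4,0,0,0,0,0,0,0,0,0,0,0,0,0,0,0,0,0,0,0,0,0,0,0],[0,4,0,0,0,0,0,0,0,0,0,0,0,0,0,0,0,0,0,0,0,0,0,0],[0,0,4,0,0,0,0,0,0,0,0,0,0,0,0,0,0,0,0,0,0,0,0,0],[0,0,0,4,0,0,0,0,0,0,0,0,0,0,0,0,0,0,0,0,0,0,0,0],[0,0,0,0,4,0,0,0,0,0,0,0,0,0,0,0,0,0,0,0,0,0,0,0],[0,0,0,0,0,4,0,0,0,0,0,0,0,0,0,0,0,0,0,0,0,0,0,0],[0,0,0,0,0,0,4,0,0,0,0,0,0,0,0,0,0,0,0,0,0,0,0,0],[0,0,0,0,0,0,0,4,0,0,0,0,0,0,0,0,0,0,0,0,0,0,0,0],[0,0,0,0,0,0,0,0,4,0,0,0,0,0,0,0,0,0,0,0,0,0,0,0],[0,0,0,0,0,0,0,0,0,4,0,0,0,0,0,0,0,0,0,0,0,0,0,0],[0,0,0,0,0,0,0,0,0,0,4,0,0,0,0,0,0,0,0,0,0,0,0,0],[0,0,0,0,0,0,0,0,0,0,0,4,0,0,0,0,0,0,0,0,0,0,0,0],[0,0,0,0,0,0,0,0,0,0,0,0,4,0,0,0,0,0,0,0,0,0,0,0],[0,0,0,0,0,0,0,0,0,0,0,0,0,4,0,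0,0,0,0,0,0,0,0,0],[0,0,0,0,0,0,0,0,0,0,0,0,0,0,4,0,0,0,0,0,0,0,0,0],[0,0,0,0,0,0,0,0,0,0,0,0,0,0,0,4,0,0,0,0,0,0,0,0],[0,0,0,0,0,0,0,0,0,0,0,0,0,0,0,0,4,0,0,0,0,0,0,0],[0,0,0,0,0,0,0,0,0,0,0,0,0,0,0,0,0,4,0,0,0,0,0,0],[0,0,0,0,0,0,0,0,0,0,0,0,0,0,0,0,0,0,4,0,0,0,0,0],[0,0,0,0,0,0,0,0,0,0,0,0,0,0,0,0,0,0,0,4,0,0,0,0],[0,0,0,0,0,0,0,0,0,0,0,0,0,0,0,0,0,0,0,0,4,0,0,0],[0,0,0,0,0,0,0,0,0,0,0,0,0,0,0,0,0,0,0,0,0,4,0,0],[0,0,0,0,0,0,0,0,0,0,0,0,0,0,0,0,0,0,0,0,0,0,4,0],[0,0,0,0,0,0,0,0,0,0,0,0,0,0,0,0,0,0,0,0,0,0,0,4]],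
  [[4,0,0,0,0,0,0,0,0,0,0,0,0,0,0,0,0,0,0,0,0,0,0,0],[0,4,0,0,0,0,0,0,0,0,0,0,0,0,0,0,0,0,0,0,0,0,0,0],[0,0,4,0,0,0,0,0,0,0,0,0,0,0,0,0,0,0,0,0,0,0,0,0],[0,0,0,4,0,0,0,0,0,0,0,0,0,0,0,0,0,0,0,0,0,0,0,0],[0,0,0,0,4,0,0,0,0,0,0,0,0,0,0,0,0,0,0,0,0,0,0,0],[0,0,0,0,0,4,0,0,0,0,0,0,0,0,0,0,0,0,0,0,0,0,0,0],[0,0,0,0,0,0,4,0,0,0,0,0,0,0,0,0,0,0,0,0,0,0,0,0],[0,0,0,0,0,0,0,4,0,0,0,0,0,0,0,0,0,0,0,0,0,0,0,0],[0,0,0,0,0,0,0,0,1,0,0,0,0,0,0,0,0,0,0,0,0,0,0,0],[0,0,0,0,0,0,0,0,0,1,0,0,0,0,0,0,0,0,0,0,0,0,0,0],[0,0,0,0,0,0,0,0,0,0,1,0,0,0,0,0,0,0,0,0,0,0,0,0],[0,0,0,0,0,0,0,0,0,0,0,1,0,0,0,0,0,0,0,0,0,0,0,0],[0,0,0,0,0,0,0,0,0,0,0,0,1,0,0,0,0,0,0,0,0,0,0,0],[0,0,0,0,0,0,0,0,0,0,0,0,0,1,0,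0,0,0,0,0,0,0,0,0],[0,0,0,0,0,0,0,0,0,0,0,0,0,0,1,0,0,0,0,0,0,0,0,0],[0,0,0,0,0,0,0,0,0,0,0,0,0,0,0,1,0,0,0,0,0,0,0,0],[0,0,0,0,0,0,0,0,0,0,0,0,0,0,0,0,1,0,0,0,0,0,0,0],[0,0,0,0,0,0,0,0,0,0,0,0,0,0,0,0,0,1,0,0,0,0,0,0],[0,0,0,0,0,0,0,0,0,0,0,0,0,0,0,0,0,0,1,0,0,0,0,0],[0,0,0,0,0,0,0,0,0,0,0,0,0,0,0,0,0,0,0,1,0,0,0,0],[0,0,0,0,0,0,0,0,0,0,0,0,0,0,0,0,0,0,0,0,1,0,0,0],[0,0,0,0,0,0,0,0,0,0,0,0,0,0,0,0,0,0,0,0,0,1,0,0],[0,0,0,0,0,0,0,0,0,0,0,0,0,0,0,0,0,0,0,0,0,0,1,0],[0,0,0,0,0,0,0,0,0,0,0,0,0,0,0,0,0,0,0,0,0,0,0,1]],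
  [[4,0,0,0,0,0,0,0,0,0,0,0,0,0,0,0,0,0,0,0,0,0,0,0],[0,4,0,0,0,0,0,0,0,0,0,0,0,0,0,0,0,0,0,0,0,0,0,0],[0,0,4,0,0,0,0,0,0,0,0,0,0,0,0,0,0,0,0,0,0,0,0,0],[0,0,0,4,0,0,0,0,0,0,0,0,0,0,0,0,0,0,0,0,0,0,0,0],[0,0,0,0,4,0,0,0,0,0,0,0,0,0,0,0,0,0,0,0,0,0,0,0],[0,0,0,0,0,4,0,0,0,0,0,0,0,0,0,0,0,0,0,0,0,0,0,0],[0,0,0,0,0,0,4,0,0,0,0,0,0,0,0,0,0,0,0,0,0,0,0,0],[0,0,0,0,0,0,0,4,0,0,0,0,0,0,0,0,0,0,0,0,0,0,0,0],[0,0,0,0,0,0,0,0,1,0,0,0,0,0,0,0,0,0,0,0,0,0,0,0],[0,0,0,0,0,0,0,0,0,1,0,0,0,0,0,0,0,0,0,0,0,0,0,0],[0,0,0,0,0,0,0,0,0,0,1,0,0,0,0,0,0,0,0,0,0,0,0,0],[0,0,0,0,0,0,0,0,0,0,0,1,0,0,0,0,0,0,0,0,0,0,0,0],[0,0,0,0,0,0,0,0,0,0,0,0,1,0,0,0,0,0,0,0,0,0,0,0],[0,0,0,0,0,0,0,0,0,0,0,0,0,1,0,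0,0,0,0,0,0,0,0,0],[0,0,0,0,0,0,0,0,0,0,0,0,0,0,1,0,0,0,0,0,0,0,0,0],[0,0,0,0,0,0,0,0,0,0,0,0,0,0,0,1,0,0,0,0,0,0,0,0],[0,0,0,0,0,0,0,0,0,0,0,0,0,0,0,0,1,0,0,0,0,0,0,0],[0,0,0,0,0,0,0,0,0,0,0,0,0,0,0,0,0,1,0,0,0,0,0,0],[0,0,0,0,0,0,0,0,0,0,0,0,0,0,0,0,0,0,1,0,0,0,0,0],[0,0,0,0,0,0,0,0,0,0,0,0,0,0,0,0,0,0,0,1,0,0,0,0],[0,0,0,0,0,0,0,0,0,0,0,0,0,0,0,0,0,0,0,0,1,0,0,0],[0,0,0,0,0,0,0,0,0,0,0,0,0,0,0,0,0,0,0,0,0,1,0,0],[0,0,0,0,0,0,0,0,0,0,0,0,0,0,0,0,0,0,0,0,0,0,1,0],[0,0,0,0,0,0,0,0,0,0,0,0,0,0,0,0,0,0,0,0,0,0,0,1]],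
  [[0,0,0,0,0,0,0,0,1,0,0,0,0,0,0,0,0,0,0,0,0,0,0,0],[0,0,0,0,0,0,0,0,0,1,0,0,0,0,0,0,0,0,0,0,0,0,0,0],[0,0,0,0,0,0,0,0,0,0,1,0,0,0,0,0,0,0,0,0,0,0,0,0],[0,0,0,0,0,0,0,0,0,0,0,1,0,0,0,0,0,0,0,0,0,0,0,0],[0,0,0,0,0,0,0,0,0,0,0,0,1,0,0,0,0,0,0,0,0,0,0,0],[0,0,0,0,0,0,0,0,0,0,0,0,0,1,0,0,0,0,0,0,0,0,0,0],[0,0,0,0,0,0,0,0,0,0,0,0,0,0,1,0,0,0,0,0,0,0,0,0],[0,0,0,0,0,0,0,0,0,0,0,0,0,0,0,1,0,0,0,0,0,0,0,0],[1,0,0,0,0,0,0,0,0,0,0,0,0,0,0,0,0,0,0,0,0,0,0,0],[0,1,0,0,0,0,0,0,0,0,0,0,0,0,0,0,0,0,0,0,0,0,0,0],[0,0,1,0,0,0,0,0,0,0,0,0,0,0,0,0,0,0,0,0,0,0,0,0],[0,0,0,1,0,0,0,0,0,0,0,0,0,0,0,0,0,0,0,0,0,0,0,0],[0,0,0,0,1,0,0,0,0,0,0,0,0,0,0,0,0,0,0,0,0,0,0,0],[0,0,0,0,0,1,0,0,0,0,0,0,0,0,0,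0,0,0,0,0,0,0,0,0],[0,0,0,0,0,0,1,0,0,0,0,0,0,0,0,0,0,0,0,0,0,0,0,0],[0,0,0,0,0,0,0,1,0,0,0,0,0,0,0,0,0,0,0,0,0,0,0,0],[0,0,0,0,0,0,0,0,0,0,0,0,0,0,0,0,1,0,0,0,0,0,0,0],[0,0,0,0,0,0,0,0,0,0,0,0,0,0,0,0,0,1,0,0,0,0,0,0],[0,0,0,0,0,0,0,0,0,0,0,0,0,0,0,0,0,0,1,0,0,0,0,0],[0,0,0,0,0,0,0,0,0,0,0,0,0,0,0,0,0,0,0,1,0,0,0,0],[0,0,0,0,0,0,0,0,0,0,0,0,0,0,0,0,0,0,0,0,1,0,0,0],[0,0,0,0,0,0,0,0,0,0,0,0,0,0,0,0,0,0,0,0,0,1,0,0],[0,0,0,0,0,0,0,0,0,0,0,0,0,0,0,0,0,0,0,0,0,0,1,0],[0,0,0,0,0,0,0,0,0,0,0,0,0,0,0,0,0,0,0,0,0,0,0,1]],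
  [[0,0,0,0,0,0,0,0,1,0,0,0,0,0,0,0,0,0,0,0,0,0,0,0],[0,0,0,0,0,0,0,0,0,1,0,0,0,0,0,0,0,0,0,0,0,0,0,0],[0,0,0,0,0,0,0,0,0,0,1,0,0,0,0,0,0,0,0,0,0,0,0,0],[0,0,0,0,0,0,0,0,0,0,0,1,0,0,0,0,0,0,0,0,0,0,0,0],[0,0,0,0,0,0,0,0,0,0,0,0,1,0,0,0,0,0,0,0,0,0,0,0],[0,0,0,0,0,0,0,0,0,0,0,0,0,1,0,0,0,0,0,0,0,0,0,0],[0,0,0,0,0,0,0,0,0,0,0,0,0,0,1,0,0,0,0,0,0,0,0,0],[0,0,0,0,0,0,0,0,0,0,0,0,0,0,0,1,0,0,0,0,0,0,0,0],[1,0,0,0,0,0,0,0,0,0,0,0,0,0,0,0,0,0,0,0,0,0,0,0],[0,1,0,0,0,0,0,0,0,0,0,0,0,0,0,0,0,0,0,0,0,0,0,0],[0,0,1,0,0,0,0,0,0,0,0,0,0,0,0,0,0,0,0,0,0,0,0,0],[0,0,0,1,0,0,0,0,0,0,0,0,0,0,0,0,0,0,0,0,0,0,0,0],[0,0,0,0,1,0,0,0,0,0,0,0,0,0,0,0,0,0,0,0,0,0,0,0],[0,0,0,0,0,1,0,0,0,0,0,0,0,0,0,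0,0,0,0,0,0,0,0,0],[0,0,0,0,0,0,1,0,0,0,0,0,0,0,0,0,0,0,0,0,0,0,0,0],[0,0,0,0,0,0,0,1,0,0,0,0,0,0,0,0,0,0,0,0,0,0,0,0],[0,0,0,0,0,0,0,0,0,0,0,0,0,0,0,0,1,0,0,0,0,0,0,0],[0,0,0,0,0,0,0,0,0,0,0,0,0,0,0,0,0,1,0,0,0,0,0,0],[0,0,0,0,0,0,0,0,0,0,0,0,0,0,0,0,0,0,1,0,0,0,0,0],[0,0,0,0,0,0,0,0,0,0,0,0,0,0,0,0,0,0,0,1,0,0,0,0],[0,0,0,0,0,0,0,0,0,0,0,0,0,0,0,0,0,0,0,0,1,0,0,0],[0,0,0,0,0,0,0,0,0,0,0,0,0,0,0,0,0,0,0,0,0,1,0,0],[0,0,0,0,0,0,0,0,0,0,0,0,0,0,0,0,0,0,0,0,0,0,1,0],[0,0,0,0,0,0,0,0,0,0,0,0,0,0,0,0,0,0,0,0,0,0,0,1]],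
  [[1,0,0,0,0,0,0,0,0,0,0,0,0,0,0,0,0,0,0,0,0,0,0,0],[0,1,0,0,0,0,0,0,0,0,0,0,0,0,0,0,0,0,0,0,0,0,0,0],[0,0,1,0,0,0,0,0,0,0,0,0,0,0,0,0,0,0,0,0,0,0,0,0],[0,0,0,1,0,0,0,0,0,0,0,0,0,0,0,0,0,0,0,0,0,0,0,0],[0,0,0,0,1,0,0,0,0,0,0,0,0,0,0,0,0,0,0,0,0,0,0,0],[0,0,0,0,0,1,0,0,0,0,0,0,0,0,0,0,0,0,0,0,0,0,0,0],[0,0,0,0,0,0,1,0,0,0,0,0,0,0,0,0,0,0,0,0,0,0,0,0],[0,0,0,0,0,0,0,1,0,0,0,0,0,0,0,0,0,0,0,0,0,0,0,0],[0,0,0,0,0,0,0,0,0,0,0,0,0,0,0,0,1,0,0,0,0,0,0,0],[0,0,0,0,0,0,0,0,0,0,0,0,0,0,0,0,0,1,0,0,0,0,0,0],[0,0,0,0,0,0,0,0,0,0,0,0,0,0,0,0,0,0,1,0,0,0,0,0],[0,0,0,0,0,0,0,0,0,0,0,0,0,0,0,0,0,0,0,1,0,0,0,0],[0,0,0,0,0,0,0,0,0,0,0,0,0,0,0,0,0,0,0,0,1,0,0,0],[0,0,0,0,0,0,0,0,0,0,0,0,0,0,0,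0,0,0,0,0,0,1,0,0],[0,0,0,0,0,0,0,0,0,0,0,0,0,0,0,0,0,0,0,0,0,0,1,0],[0,0,0,0,0,0,0,0,0,0,0,0,0,0,0,0,0,0,0,0,0,0,0,1],[0,0,0,0,0,0,0,0,1,0,0,0,0,0,0,0,0,0,0,0,0,0,0,0],[0,0,0,0,0,0,0,0,0,1,0,0,0,0,0,0,0,0,0,0,0,0,0,0],[0,0,0,0,0,0,0,0,0,0,1,0,0,0,0,0,0,0,0,0,0,0,0,0],[0,0,0,0,0,0,0,0,0,0,0,1,0,0,0,0,0,0,0,0,0,0,0,0],[0,0,0,0,0,0,0,0,0,0,0,0,1,0,0,0,0,0,0,0,0,0,0,0],[0,0,0,0,0,0,0,0,0,0,0,0,0,1,0,0,0,0,0,0,0,0,0,0],[0,0,0,0,0,0,0,0,0,0,0,0,0,0,1,0,0,0,0,0,0,0,0,0],[0,0,0,0,0,0,0,0,0,0,0,0,0,0,0,1,0,0,0,0,0,0,0,0]],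
  [[1,0,0,0,0,0,0,0,0,0,0,0,0,0,0,0,0,0,0,0,0,0,0,0],[0,1,0,0,0,0,0,0,0,0,0,0,0,0,0,0,0,0,0,0,0,0,0,0],[0,0,1,0,0,0,0,0,0,0,0,0,0,0,0,0,0,0,0,0,0,0,0,0],[0,0,0,1,0,0,0,0,0,0,0,0,0,0,0,0,0,0,0,0,0,0,0,0],[0,0,0,0,1,0,0,0,0,0,0,0,0,0,0,0,0,0,0,0,0,0,0,0],[0,0,0,0,0,1,0,0,0,0,0,0,0,0,0,0,0,0,0,0,0,0,0,0],[0,0,0,0,0,0,1,0,0,0,0,0,0,0,0,0,0,0,0,0,0,0,0,0],[0,0,0,0,0,0,0,1,0,0,0,0,0,0,0,0,0,0,0,0,0,0,0,0],[0,0,0,0,0,0,0,0,0,0,0,0,0,0,0,0,1,0,0,0,0,0,0,0],[0,0,0,0,0,0,0,0,0,0,0,0,0,0,0,0,0,1,0,0,0,0,0,0],[0,0,0,0,0,0,0,0,0,0,0,0,0,0,0,0,0,0,1,0,0,0,0,0],[0,0,0,0,0,0,0,0,0,0,0,0,0,0,0,0,0,0,0,1,0,0,0,0],[0,0,0,0,0,0,0,0,0,0,0,0,0,0,0,0,0,0,0,0,1,0,0,0],[0,0,0,0,0,0,0,0,0,0,0,0,0,0,0,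0,0,0,0,0,0,1,0,0],[0,0,0,0,0,0,0,0,0,0,0,0,0,0,0,0,0,0,0,0,0,0,1,0],[0,0,0,0,0,0,0,0,0,0,0,0,0,0,0,0,0,0,0,0,0,0,0,1],[0,0,0,0,0,0,0,0,1,0,0,0,0,0,0,0,0,0,0,0,0,0,0,0],[0,0,0,0,0,0,0,0,0,1,0,0,0,0,0,0,0,0,0,0,0,0,0,0],[0,0,0,0,0,0,0,0,0,0,1,0,0,0,0,0,0,0,0,0,0,0,0,0],[0,0,0,0,0,0,0,0,0,0,0,1,0,0,0,0,0,0,0,0,0,0,0,0],[0,0,0,0,0,0,0,0,0,0,0,0,1,0,0,0,0,0,0,0,0,0,0,0],[0,0,0,0,0,0,0,0,0,0,0,0,0,1,0,0,0,0,0,0,0,0,0,0],[0,0,0,0,0,0,0,0,0,0,0,0,0,0,1,0,0,0,0,0,0,0,0,0],[0,0,0,0,0,0,0,0,0,0,0,0,0,0,0,1,0,0,0,0,0,0,0,0]],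
  [[3,0,0,0,0,0,0,0,4,0,4,0,4,2,1,0,0,0,0,0,3,0,0,0],[0,3,0,0,0,0,0,0,0,4,0,4,2,1,0,1,0,0,0,0,0,3,0,0],[0,0,3,0,0,0,0,0,1,0,4,0,4,0,4,2,0,0,0,0,0,0,3,0],[0,0,0,3,0,0,0,0,0,1,0,4,0,4,2,1,0,0,0,0,0,0,0,3],[0,0,0,0,3,0,0,0,1,3,1,0,4,0,1,0,2,0,0,0,0,0,0,0],[0,0,0,0,0,3,0,0,3,4,0,1,0,4,0,1,0,2,0,0,0,0,0,0],[0,0,0,0,0,0,3,0,4,0,1,3,4,0,4,0,0,0,2,0,0,0,0,0],[0,0,0,0,0,0,0,3,0,4,3,4,0,4,0,4,0,0,0,2,0,0,0,0],[4,0,1,0,1,3,4,0,0,0,0,0,0,0,0,0,1,3,4,0,1,0,4,0],[0,4,0,1,3,4,0,4,0,0,0,0,0,0,0,0,3,4,0,4,0,1,0,4],[4,0,4,0,1,0,1,3,0,0,0,0,0,0,0,0,1,0,1,3,1,0,1,0],[0,4,0,4,0,1,3,4,0,0,0,0,0,0,0,0,0,1,3,4,0,1,0,1],[4,2,4,0,4,0,4,0,0,0,0,0,0,0,0,0,4,0,4,0,1,3,1,0],[2,1,0,4,0,4,0,4,0,0,0,0,0,0,0,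0,0,4,0,4,3,4,0,1],[1,0,4,2,1,0,4,0,0,0,0,0,0,0,0,0,1,0,4,0,4,0,1,3],[0,1,2,1,0,1,0,4,0,0,0,0,0,0,0,0,0,1,0,4,0,4,3,4],[0,0,0,0,2,0,0,0,1,3,1,0,4,0,1,0,3,0,0,0,0,0,0,0],[0,0,0,0,0,2,0,0,3,4,0,1,0,4,0,1,0,3,0,0,0,0,0,0],[0,0,0,0,0,0,2,0,4,0,1,3,4,0,4,0,0,0,3,0,0,0,0,0],[0,0,0,0,0,0,0,2,0,4,3,4,0,4,0,4,0,0,0,3,0,0,0,0],[3,0,0,0,0,0,0,0,1,0,1,0,1,3,4,0,0,0,0,0,3,0,0,0],[0,3,0,0,0,0,0,0,0,1,0,1,3,4,0,4,0,0,0,0,0,3,0,0],[0,0,3,0,0,0,0,0,4,0,1,0,1,0,1,3,0,0,0,0,0,0,3,0],[0,0,0,3,0,0,0,0,0,4,0,1,0,1,3,4,0,0,0,0,0,0,0,3]],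
  [[3,0,0,0,0,0,0,0,4,0,4,0,4,2,1,0,0,0,0,0,3,0,0,0],[0,3,0,0,0,0,0,0,0,4,0,4,2,1,0,1,0,0,0,0,0,3,0,0],[0,0,3,0,0,0,0,0,1,0,4,0,4,0,4,2,0,0,0,0,0,0,3,0],[0,0,0,3,0,0,0,0,0,1,0,4,0,4,2,1,0,0,0,0,0,0,0,3],[0,0,0,0,3,0,0,0,1,3,1,0,4,0,1,0,2,0,0,0,0,0,0,0],[0,0,0,0,0,3,0,0,3,4,0,1,0,4,0,1,0,2,0,0,0,0,0,0],[0,0,0,0,0,0,3,0,4,0,1,3,4,0,4,0,0,0,2,0,0,0,0,0],[0,0,0,0,0,0,0,3,0,4,3,4,0,4,0,4,0,0,0,2,0,0,0,0],[4,0,1,0,1,3,4,0,0,0,0,0,0,0,0,0,1,3,4,0,1,0,4,0],[0,4,0,1,3,4,0,4,0,0,0,0,0,0,0,0,3,4,0,4,0,1,0,4],[4,0,4,0,1,0,1,3,0,0,0,0,0,0,0,0,1,0,1,3,1,0,1,0],[0,4,0,4,0,1,3,4,0,0,0,0,0,0,0,0,0,1,3,4,0,1,0,1],[4,2,4,0,4,0,4,0,0,0,0,0,0,0,0,0,4,0,4,0,1,3,1,0],[2,1,0,4,0,4,0,4,0,0,0,0,0,0,0,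0,0,4,0,4,3,4,0,1],[1,0,4,2,1,0,4,0,0,0,0,0,0,0,0,0,1,0,4,0,4,0,1,3],[0,1,2,1,0,1,0,4,0,0,0,0,0,0,0,0,0,1,0,4,0,4,3,4],[0,0,0,0,2,0,0,0,1,3,1,0,4,0,1,0,3,0,0,0,0,0,0,0],[0,0,0,0,0,2,0,0,3,4,0,1,0,4,0,1,0,3,0,0,0,0,0,0],[0,0,0,0,0,0,2,0,4,0,1,3,4,0,4,0,0,0,3,0,0,0,0,0],[0,0,0,0,0,0,0,2,0,4,3,4,0,4,0,4,0,0,0,3,0,0,0,0],[3,0,0,0,0,0,0,0,1,0,1,0,1,3,4,0,0,0,0,0,3,0,0,0],[0,3,0,0,0,0,0,0,0,1,0,1,3,4,0,4,0,0,0,0,0,3,0,0],[0,0,3,0,0,0,0,0,4,0,1,0,1,0,1,3,0,0,0,0,0,0,3,0],[0,0,0,3,0,0,0,0,0,4,0,1,0,1,3,4,0,0,0,0,0,0,0,3]],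
  [[0,4,4,0,3,0,4,1,0,0,4,1,0,1,4,0,1,0,0,1,1,4,0,0],[4,4,0,4,0,3,1,0,0,0,1,0,1,1,0,4,0,1,1,1,4,0,0,0],[1,0,0,4,1,4,3,0,1,4,0,0,1,0,0,1,0,4,1,0,0,0,1,4],[0,1,4,4,4,0,0,3,4,0,0,0,0,1,1,1,4,4,0,1,0,0,4,0],[2,0,4,1,0,4,1,0,0,4,4,0,0,0,1,4,4,1,0,0,1,0,0,4],[0,2,1,0,4,4,0,1,4,4,0,4,0,0,4,0,1,0,0,0,0,1,4,4],[1,4,2,0,4,0,0,4,1,0,0,4,4,1,0,0,0,0,4,1,0,1,1,0],[4,0,0,2,0,4,4,4,0,1,4,4,1,0,0,0,0,0,1,0,1,1,0,1],[4,0,0,4,1,4,0,0,4,1,0,0,4,0,0,4,0,4,4,0,2,0,1,4],[0,4,4,4,4,0,0,0,1,0,0,0,0,4,4,4,4,4,0,4,0,2,4,0],[0,1,4,0,0,0,1,4,0,0,4,1,0,1,4,0,1,0,0,4,4,1,2,0],[1,1,0,4,0,0,4,0,0,0,1,0,1,1,0,4,0,1,4,4,1,0,0,2],[4,1,0,0,4,0,0,1,1,0,0,4,4,1,0,0,3,0,1,4,0,4,1,0],[1,0,0,0,0,4,1,1,0,1,4,4,1,0,0,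0,0,3,4,0,4,4,0,1],[0,0,4,1,0,4,4,0,0,1,1,0,0,0,4,1,4,1,3,0,4,0,0,4],[0,0,1,0,4,4,0,4,1,1,0,1,0,0,1,0,1,0,0,3,0,4,4,4],[0,4,1,0,0,0,4,1,3,0,4,1,0,1,1,0,4,0,0,4,4,1,0,0],[4,4,0,1,0,0,1,0,0,3,1,0,1,1,0,1,0,4,4,4,1,0,0,0],[4,0,0,4,1,4,0,0,1,4,3,0,4,0,0,1,0,1,4,0,0,0,4,1],[0,4,4,4,4,0,0,0,4,0,0,3,0,4,1,1,1,1,0,4,0,0,1,0],[0,0,4,1,0,4,4,0,0,4,1,0,3,0,1,4,1,4,0,0,4,0,0,1],[0,0,1,0,4,4,0,4,4,4,0,1,0,3,4,0,4,0,0,0,0,4,1,1],[1,4,0,0,1,0,0,4,4,0,0,4,4,1,3,0,0,0,1,4,0,4,4,0],[4,0,0,0,0,1,4,4,0,4,4,4,1,0,0,3,0,0,4,0,4,4,0,4]],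
  [[1,0,0,0,0,0,0,0,0,0,0,0,0,0,0,0,0,0,0,0,0,0,0,0],[0,1,0,0,0,0,0,0,0,0,0,0,0,0,0,0,0,0,0,0,0,0,0,0],[0,0,1,0,0,0,0,0,0,0,0,0,0,0,0,0,0,0,0,0,0,0,0,0],[0,0,0,1,0,0,0,0,0,0,0,0,0,0,0,0,0,0,0,0,0,0,0,0],[0,0,0,0,1,0,0,0,0,0,0,0,0,0,0,0,0,0,0,0,0,0,0,0],[0,0,0,0,0,1,0,0,0,0,0,0,0,0,0,0,0,0,0,0,0,0,0,0],[0,0,0,0,0,0,1,0,0,0,0,0,0,0,0,0,0,0,0,0,0,0,0,0],[0,0,0,0,0,0,0,1,0,0,0,0,0,0,0,0,0,0,0,0,0,0,0,0],[0,0,0,0,0,0,0,0,1,0,0,0,0,0,0,0,0,0,0,0,0,0,0,0],[0,0,0,0,0,0,0,0,0,1,0,0,0,0,0,0,0,0,0,0,0,0,0,0],[0,0,0,0,0,0,0,0,0,0,1,0,0,0,0,0,0,0,0,0,0,0,0,0],[0,0,0,0,0,0,0,0,0,0,0,1,0,0,0,0,0,0,0,0,0,0,0,0],[0,0,0,0,0,0,0,0,0,0,0,0,1,0,0,0,0,0,0,0,0,0,0,0],[0,0,0,0,0,0,0,0,0,0,0,0,0,1,0,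0,0,0,0,0,0,0,0,0],[0,0,0,0,0,0,0,0,0,0,0,0,0,0,1,0,0,0,0,0,0,0,0,0],[0,0,0,0,0,0,0,0,0,0,0,0,0,0,0,1,0,0,0,0,0,0,0,0],[0,0,0,0,0,0,0,0,0,0,0,0,0,0,0,0,1,0,0,0,0,0,0,0],[0,0,0,0,0,0,0,0,0,0,0,0,0,0,0,0,0,1,0,0,0,0,0,0],[0,0,0,0,0,0,0,0,0,0,0,0,0,0,0,0,0,0,1,0,0,0,0,0],[0,0,0,0,0,0,0,0,0,0,0,0,0,0,0,0,0,0,0,1,0,0,0,0],[0,0,0,0,0,0,0,0,0,0,0,0,0,0,0,0,0,0,0,0,1,0,0,0],[0,0,0,0,0,0,0,0,0,0,0,0,0,0,0,0,0,0,0,0,0,1,0,0],[0,0,0,0,0,0,0,0,0,0,0,0,0,0,0,0,0,0,0,0,0,0,1,0],[0,0,0,0,0,0,0,0,0,0,0,0,0,0,0,0,0,0,0,0,0,0,0,1]]]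
theorem hM : (arP 5).mOk 24 Ms = true := by decide +kernel
theorem K5 : (arP 5).Ok (Nat.cast : Nat → ZMod 5) := arP_ok 5 (by norm_num)
theorem hR : ∀ k < 4, B.getD k r0 ∈ B ∧ ∀ j, rk (B.getD k r0) (vc (bv j)) ∧
    ∀ i, -co (rc (B.getD k r0) (vc (bv j))) i % 5 = ent Ms (2 * (4 + k)) i j := by decide +kernel
theorem ρ_rp {k : Nat} (hk : k < 4) :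
    ρ ⟨rp (SB (hR k hk).1), rp_mem _⟩ = mat Nat.cast Fin.val (matAt Ms (2 * (4 + k))) := by
  ext i j
  show -((cd (rp (SB (hR k hk).1) (b0 j)) i : Int) : ZMod 5) = _
  rw [show cd (rp (SB (hR k hk).1) (b0 j)) = co (rc (B.getD k r0) (vc (bv j))) from EF_inj ((EF_cd _).trans (E_rc ((hR k hk).2 j).1).symm), mat_apply,
    ← Int.cast_natCast, ← ((hR k hk).2 j).2 i, ← Int.cast_neg]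
  exact (ZMod.intCast_mod _ 5).symm
noncomputable abbrev b : Nat → twoJ2 := pick ρ Nat.cast Fin.val Ms
theorem mo : MatOf ρ Nat.cast Fin.val b Ms (lets (List.range 4)) :=
  K5.pick (ixFin 24) hM _ (K5.has (ixFin 24) hM (K5.pick (ixFin 24) hM [4, 5, 6, 7] (fun j hj => by
    obtain ⟨k, hk, rfl⟩ : ∃ k < 4, j = 4 + k := ⟨j - 4, by simp at hj; omega⟩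
    exact ⟨_, ρ_rp hk⟩) (by decide +kernel))
    [[8,10,14,8,10,8,12,14,10,12,14,12,14,8,12],[10,12,10,14,8,14,12,14,10,14,8,12,14,8],[14,10,14,12,14,10,12,14,12,14,8,10,14,8,12],[8,10,8,10,12,10,8,10,12]] _ (by decide +kernel)) (by decide +kernel)
theorem gen : genW b (gensW 4) = ⊤ := by
  have key := fun a ha y hy => K5.extMem (ixFin 24) hM ρ_inj mo 4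
    [[0,2,1,4,2,1,4,1,6],[2,1,4,0,4,1,4,0,2,4,6],[1,3,3,1,3,4,1,2,4,0,6],[0,4,0,3,1,2,2,0,2,1,4,1]] [8, 10, 12, 14] (by decide +kernel) (a := a) ha (y := y) hy
  have : K ≤ (genW b (gensW 4)).map twoJ2.subtype := (closure_le _).2 fun f ⟨s, hs, e⟩ => by
    obtain ⟨k, hk, rfl⟩ := (show ∀ s ∈ B, ∃ k < 4, s = B.getD k r0 by decide +kernel) s hs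
    exact ⟨_, key _ (by interval_cases k <;> simp) _ (ρ_rp hk), e.symm⟩
  refine eq_top_iff.2 fun x _ => ?_
  obtain ⟨y, h1, h2⟩ := this (K_eq.le x.2)
  exact (Subtype.ext h2 : y = x) ▸ h1
theorem main : Nat.card (center twoJ2) = 2 ∧ Mdl J2 3 J2m.Rf 604800 := by
  have I := ixFin 24
  have hz : b 3 ∈ center twoJ2 := cen_of_scl ρ_inj (((congrArg ρ (letter_even b 3).symm).trans (mo 6 (by decide))).trans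
    (K5.scl I (by decide +kernel)))
  obtain ⟨h1, h2⟩ := cext J2m.pr J2m.mdl0 J2m.simple J2m.perf0 gen hz (K5.relZ I hM ρ_inj mo [[6],[6],[6],[6],[],[6],[6],[],[6],[6],[6],[6]] 3 (by decide +kernel)) (j := 0)
    (by norm_num) (K5.nc I hM mo (t := 0) 1 16 0 0 (by decide +kernel))
  exact ⟨by rw [h1, Nat.card_zpowers, K5.ord I hM ρ_inj mo (j := 3) (p := 2) (by norm_num) 17 0 0 (by decide +kernel)], h2⟩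
theorem mdl : Mdl J2 3 J2m.Rf 604800 := main.2

end CfsgH7.Ico
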